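import Groth.Agent.SekTors.Divide
import Groth.Agent.GLDescent.Special
import Groth.Agent.SekLib.GKFree
import Mathlib.RingTheory.Polynomial.Basic

/-!
# Sections of torsors under G^(λ) from lifts of units
-/

set_option autoImplicit false
set_option linter.style.haveILetI false

universe u

open CategoryTheory CategoryTheory.Limits MonoidalCategory CartesianMonoidalCategory MonObj AlgebraicGeometry SekSuwa
open Groth.Agent.SekLib Groth.Agent.GITLib

namespace Groth.Agent.SekTors

noncomputable section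

variable {R : Type u} [CommRing R]

theorem moduleFlat_A (lam : R) : Module.Flat R (A R lam) := by
  let b : Polynomial R := 1 + Polynomial.C lam * Polynomial.X
  let L := Localization.Away b
  let e : Polynomial R →ₐ[R] A R lam := Polynomial.aeval A.t
  have he : e b = 1 + lam • A.t := by simp [e, b, Algebra.smul_def]
  have heu : ∀ y : Submonoid.powers b, IsUnit (e y) := fun y => by
    obtain ⟨_, m, rfl⟩ := y
    show IsUnit (e (b ^ m))
    rw [map_pow, he]
    refine (IsUnit.of_mul_eq_one A.inv ?_).pow m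
    exact A.u_mul_inv
  let φ : L →ₐ[R] A R lam := IsLocalization.liftAlgHom heu
  have hφ : ∀ q, φ (algebraMap (Polynomial R) L q) = e q := fun q => IsLocalization.lift_eq heu q
  obtain ⟨d, hd⟩ := (IsLocalization.Away.algebraMap_isUnit b : IsUnit (algebraMap (Polynomial R) L b)).exists_right_inv
  have hb : 1 + lam • algebraMap (Polynomial R) L Polynomial.X = algebraMap (Polynomial R) L b := by
    simp [b, Algebra.smul_def, IsScalarTower.algebraMap_apply R (Polynomial R) L]
  let ψ : A R lam →ₐ[R] L := A.lift R lam (algebraMap (Polynomial R) L Polynomial.X) d (by rw [hb, hd])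
  have ht : φ (ψ A.t) = A.t := by rw [A.lift_t, hφ]; exact Polynomial.aeval_X _
  have h : φ.comp ψ = AlgHom.id R _ := by
    refine A.algHom_ext ht ?_
    refine (IsUnit.of_mul_eq_one A.inv A.u_mul_inv : IsUnit (A.u : A R lam)).mul_left_cancel ?_
    show A.u * (φ.comp ψ) A.inv = A.u * A.inv
    have h1 := congrArg (φ.comp ψ) (A.u_mul_inv (R := R) (lam := lam))
    rw [map_mul, map_one, A.u, map_add, map_one, map_smul, AlgHom.comp_apply, ht] at h1
    rw [A.u_mul_inv, A.u]
    exact h1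
  haveI : Module.Flat R L := Module.Flat.trans R (Polynomial R) L
  exact Module.Flat.of_retract ψ.toLinearMap φ.toLinearMap (LinearMap.ext fun x => DFunLike.congr_fun h x)

instance flat_G (lam : R) : Flat (G R lam).hom := by
  haveI := moduleFlat_A lam
  exact Groth.Agent.GLDescent.flat_specMap

instance isAffineHom_G (lam : R) : IsAffineHom (G R lam).hom :=
  inferInstanceAs (IsAffineHom (Spec.map (CommRingCat.ofHom (algebraMap R (A R lam)))))

variable {X : Scheme.{u}} (f : X ⟶ Spec (CommRingCat.of R))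

theorem sc_mul_cancel {T : Over X} [Flat (T.hom ≫ f)] {r : R} (hr : r ∈ nonZeroDivisors R) {x y : Γ(T.left, ⊤)}
    (h : sc f T r * x = sc f T r * y) : x = y := by
  letI := secAlgebra (dn f T)
  haveI : Flat (dn f T).hom := ‹Flat (T.hom ≫ f)›
  refine sub_eq_zero.1 (eq_zero_of_smul_eq_zero (T := dn f T) hr ?_)
  rw [Algebra.smul_def]
  show sc f T r * (x - y) = 0
  rw [mul_sub, h, sub_self]

theorem sc_eq_zero {T : Over X} {r : R} {l : T.left ⟶ Spec (CommRingCat.of (R ⧸ Ideal.span ({r} : Set R)))}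
    (h : T.hom ≫ f = l ≫ Spec.map (CommRingCat.ofHom (Ideal.Quotient.mk (Ideal.span ({r} : Set R))))) :
    sc f T r = 0 := by
  rw [sc_eq, h, Scheme.Hom.comp_appTop, ← Scheme.ΓSpecIso_inv_naturality_assoc]
  show l.appTop.hom ((Scheme.ΓSpecIso _).inv.hom (Ideal.Quotient.mk _ r)) = 0
  rw [show Ideal.Quotient.mk (Ideal.span ({r} : Set R)) r = 0 from
    Ideal.Quotient.eq_zero_iff_mem.2 (Ideal.subset_span rfl), map_zero, map_zero]

theorem flat_tensor_hom (U P : Over X) [Flat P.hom] [Flat (U.hom ≫ f)] : Flat ((U ⊗ P).hom ≫ f) := by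
  haveI : Flat (fst U P).left := MorphismProperty.pullback_fst (P := @Flat) _ _ ‹Flat P.hom›
  rw [← Over.w (fst U P), Category.assoc]
  infer_instance

theorem flat_tensor_hom' (U P : Over X) [Flat U.hom] [Flat (P.hom ≫ f)] : Flat ((U ⊗ P).hom ≫ f) := by
  haveI : Flat (snd U P).left := MorphismProperty.pullback_snd (P := @Flat) _ _ ‹Flat U.hom›
  rw [← Over.w (snd U P), Category.assoc]
  infer_instance

variable {lam : R} {P : Over X} (a : AlgGrp.Action (Red.bc f (G R lam)) P)

/-- An equivariant unit descends modulo λ. -/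
theorem exists_desc_mod (ha : NonAbH1.IsTorsorFor Scheme.fpqcPrecoverage a)
    (U : Over X) (z : Γ((U ⊗ P).left, ⊤)) (hz : IsUnit z)
    (hze : ∀ {T : Over X} (g : T ⟶ Red.bc f (G R lam)) (q : T ⟶ U ⊗ P),
      (lift (q ≫ fst _ _) (lift g (q ≫ snd _ _) ≫ a.act)).left.appTop z =
        (1 + sc f T lam * tG f g) * q.left.appTop z)
    {L : Over X} (k : L ⟶ U) (h0 : sc f L lam = 0) :
    ∃ v : Γ(L.left, ⊤), IsUnit v ∧
      ∀ {T' : Over X} (m : T' ⟶ L) (p : T' ⟶ P), m.left.appTop v = (lift (m ≫ k) p).left.appTop z :=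
  exists_desc_unit ha.2 L (fun {T'} m p => (lift (m ≫ k) p).left.appTop z)
    (fun {T' T''} j m p => by
      rw [← ConcreteCategory.comp_apply, ← Scheme.Hom.comp_appTop, ← Over.comp_left, comp_lift, Category.assoc])
    (fun {T'} m p => hz.map _)
    (fun {T'} m p p' => by
      obtain ⟨g, hg, -⟩ := existsUnique_diff ha.1 p p'
      have e := hze g (lift (m ≫ k) p)
      rw [lift_fst, lift_snd, hg, ← sc_map f m, h0, map_zero, zero_mul, add_zero, _root_.one_mul] at e
      exact e.symm)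

/-- A torsor under G^(λ) with an equivariant unit `z` on it over `U` has a section over `U` as soon as the reduction
of `z` modulo λ lifts to a unit of `U`. -/
theorem exists_section_of_unit (hlam : lam ∈ nonZeroDivisors R) (ha : NonAbH1.IsTorsorFor Scheme.fpqcPrecoverage a)
    (U : Over X) (z : Γ((U ⊗ P).left, ⊤)) (hz : IsUnit z)
    (hze : ∀ {T : Over X} (g : T ⟶ Red.bc f (G R lam)) (q : T ⟶ U ⊗ P),
      (lift (q ≫ fst _ _) (lift g (q ≫ snd _ _) ≫ a.act)).left.appTop z =
        (1 + sc f T lam * tG f g) * q.left.appTop z)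
    [Flat (U.hom ≫ f)] {L : Over X} (k : L ⟶ U) {l : L.left ⟶ Spec (CommRingCat.of (R ⧸ Ideal.span ({lam} : Set R)))}
    (hk : IsPullback k.left l (U.hom ≫ f) (Spec.map (CommRingCat.ofHom (Ideal.Quotient.mk (Ideal.span ({lam} : Set R))))))
    (u : Γ(U.left, ⊤)) (hu : IsUnit u)
    (huv : ∀ {T' : Over X} (m : T' ⟶ L) (p : T' ⟶ P),
      (m ≫ k).left.appTop u = (lift (m ≫ k) p).left.appTop z) :
    Nonempty (U ⟶ P) := by
  haveI : Flat P.hom := property_of_torsor @Flat ha inferInstance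
  haveI hQ : Flat ((U ⊗ P).hom ≫ f) := flat_tensor_hom f U P
  let Q : Over X := U ⊗ P
  have huQ : IsUnit ((fst U P).left.appTop u) := hu.map _
  let w : Γ(Q.left, ⊤) := z * ((huQ.unit⁻¹ : _ˣ) : Γ(Q.left, ⊤))
  have hw : w * (fst U P).left.appTop u = z := by rw [_root_.mul_assoc, IsUnit.val_inv_mul, _root_.mul_one]
  let sm := Spec.map (CommRingCat.ofHom (Ideal.Quotient.mk (Ideal.span ({lam} : Set R))))
  let L' : Over X := Over.mk (pullback.fst (Q.hom ≫ f) sm ≫ Q.hom)
  let kQ : L' ⟶ Q := Over.homMk (pullback.fst (Q.hom ≫ f) sm) rfl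
  let m : L' ⟶ L := Over.homMk (hk.lift (kQ ≫ fst U P).left (pullback.snd (Q.hom ≫ f) sm) (by
      rw [← Category.assoc, Over.w (kQ ≫ fst U P)]
      exact (Category.assoc _ _ _).trans pullback.condition)) (by
    rw [← Over.w k, ← Category.assoc, hk.lift_fst]
    exact Over.w (kQ ≫ fst U P))
  have hm : m ≫ k = kQ ≫ fst U P := Over.OverMorphism.ext (hk.lift_fst _ _ _)
  have hvan : kQ.left.appTop (w - 1) = 0 := by
    rw [map_sub, map_one, sub_eq_zero]
    refine (huQ.map kQ.left.appTop.hom).mul_right_cancel ?_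
    show kQ.left.appTop w * kQ.left.appTop ((fst U P).left.appTop u) =
      1 * kQ.left.appTop ((fst U P).left.appTop u)
    rw [← map_mul, hw, _root_.one_mul]
    have e := huv m (kQ ≫ snd U P)
    rw [hm, lift_comp_fst_snd, Over.comp_left, Scheme.Hom.comp_appTop] at e
    exact e.symm
  obtain ⟨t, ht⟩ := exists_mul_of_restrict_zero (Q.hom ≫ f) hlam (IsPullback.of_hasPullback (Q.hom ≫ f) sm) (w - 1) hvan
  have hw' : 1 + sc f Q lam * t = w := by rw [sc_eq, ht]; ring
  obtain ⟨g₀, hg₀⟩ := exists_tG_eq f (lam := lam) t (by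
    rw [hw']; exact hz.mul (huQ.unit⁻¹).isUnit)
  -- equivariance
  have heq : ∀ {T : Over X} (g : T ⟶ Red.bc f (G R lam)) (q : T ⟶ Q),
      lift (q ≫ fst _ _) (lift g (q ≫ snd _ _) ≫ a.act) ≫ g₀ = g * (q ≫ g₀) := by
    let T₀ : Over X := Red.bc f (G R lam) ⊗ Q
    haveI : Flat (T₀.hom ≫ f) := flat_tensor_hom' f _ _
    let γ₀ := fst (Red.bc f (G R lam)) Q
    let q₀ := snd (Red.bc f (G R lam)) Q
    let q₁ := lift (q₀ ≫ fst _ _) (lift γ₀ (q₀ ≫ snd _ _) ≫ a.act)
    have key : q₁ ≫ g₀ = γ₀ * (q₀ ≫ g₀) := by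
      refine tG_injective f (sc_mul_cancel f hlam ?_)
      refine (hu.map (q₀ ≫ fst U P).left.appTop.hom).mul_right_cancel (add_left_cancel (a := (q₀ ≫ fst U P).left.appTop u) ?_)
      have e := hze γ₀ q₀
      have hz1 : ∀ r : T₀ ⟶ Q, r ≫ fst U P = q₀ ≫ fst U P → r.left.appTop z =
          (1 + sc f T₀ lam * tG f (r ≫ g₀)) * (q₀ ≫ fst U P).left.appTop u := fun r hr => by
        rw [← hw, map_mul, ← hw', map_add, map_one, map_mul, sc_map, tG_comp, hg₀, ← hr, Over.comp_left,
          Scheme.Hom.comp_appTop]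
        rfl
      rw [hz1 q₁ (lift_fst _ _), hz1 q₀ rfl] at e
      rw [tG_mul]
      linear_combination e
    intro T g q
    have := congrArg (lift g q ≫ ·) key
    simpa [q₁, γ₀, q₀, MonObj.comp_mul, comp_lift_assoc] using this
  obtain ⟨σ, -⟩ := exists_desc_pt (T := U) (Z := P) ha.2
    (fun {T'} m p => lift (lift m p ≫ g₀)⁻¹ p ≫ a.act)
    (fun {T' T''} j m p => by rw [comp_lift_act, GrpObj.comp_inv, comp_lift_assoc])
    (fun {T'} m p p' => by
      obtain ⟨g, hg, -⟩ := existsUnique_diff ha.1 p p'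
      have e := heq g (lift m p)
      rw [lift_fst, lift_snd, hg] at e
      rw [e, mul_inv_rev, a.lift_mul_act]
      conv_rhs => rw [← hg, ← a.lift_mul_act g⁻¹ g, inv_mul_cancel, a.lift_one_act])
  exact ⟨σ⟩

/-- A torsor under G^(λ) with an equivariant unit on it over `U` has a section over `U` as soon as units lift from the
locus of `U` where λ vanishes. -/
theorem exists_section_of_lift (hlam : lam ∈ nonZeroDivisors R) (ha : NonAbH1.IsTorsorFor Scheme.fpqcPrecoverage a)
    (U : Over X) [Flat (U.hom ≫ f)] (z : Γ((U ⊗ P).left, ⊤)) (hz : IsUnit z)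
    (hze : ∀ {T : Over X} (g : T ⟶ Red.bc f (G R lam)) (q : T ⟶ U ⊗ P),
      (lift (q ≫ fst _ _) (lift g (q ≫ snd _ _) ≫ a.act)).left.appTop z =
        (1 + sc f T lam * tG f g) * q.left.appTop z)
    {L : Over X} (k : L ⟶ U) {l : L.left ⟶ Spec (CommRingCat.of (R ⧸ Ideal.span ({lam} : Set R)))}
    (hk : IsPullback k.left l (U.hom ≫ f) (Spec.map (CommRingCat.ofHom (Ideal.Quotient.mk (Ideal.span ({lam} : Set R))))))
    (hlift : ∀ v : Γ(L.left, ⊤), IsUnit v → ∃ u : Γ(U.left, ⊤), IsUnit u ∧ k.left.appTop u = v) :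
    Nonempty (U ⟶ P) := by
  obtain ⟨v, hv, hval⟩ := exists_desc_mod f a ha U z hz hze k
    (sc_eq_zero f (l := l) (by rw [← Over.w k, Category.assoc, hk.w]))
  obtain ⟨u, hu, huv⟩ := hlift v hv
  refine exists_section_of_unit f a hlam ha U z hz hze k hk u hu fun m p => ?_
  rw [← hval m p, ← huv, Over.comp_left, Scheme.Hom.comp_appTop]
  rfl

end

end Groth.Agent.SekTors
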