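import Groth.Agent.SekTors.Pts
import Groth.Agent.SekLib.GKFree
import Groth.Agent.DiagRig.AgreeGraph

/-!
# Characters of the kernel of ψ extend to G^(μ)

A character of `G_{μ,N}` over an `R`-algebra is given by a polynomial `F` of degree `< N` with
`F(X + Y + μXY) = F(X) F(Y)` exactly, so it is the restriction of a character of `G^(μ)`.
-/

set_option autoImplicit false

universe u

open CategoryTheory Limits MonoidalCategory CartesianMonoidalCategory MonObj AlgebraicGeometry
open SekSuwa Groth.Agent.SekLib Groth.Agent.SekTors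

noncomputable section

namespace Groth.Agent.SekTors.CharLift

theorem natDegree_coeff_pow_le {A : Type*} [CommRing A] {a b : Polynomial A} (ha : a.natDegree ≤ 1)
    (hb : b.natDegree ≤ 1) : ∀ j i : ℕ, (((Polynomial.C a + Polynomial.C b * Polynomial.X) ^ j).coeff i).natDegree ≤ j := by
  intro j
  induction j with
  | zero =>
    intro i
    rw [pow_zero, Polynomial.coeff_one]
    split <;> simp
  | succ j ih =>
    intro i
    rw [pow_succ, mul_add, ← _root_.mul_assoc, Polynomial.coeff_add, Polynomial.coeff_mul_C]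
    refine (Polynomial.natDegree_add_le _ _).trans (max_le ?_ ?_)
    · exact (Polynomial.natDegree_mul_le).trans (by have := ih i; omega)
    · cases i with
      | zero => simp
      | succ i =>
        rw [Polynomial.coeff_mul_X, Polynomial.coeff_mul_C]
        exact (Polynomial.natDegree_mul_le).trans (by have := ih i; omega)

/-- An identity of truncated exponentials modulo a monic polynomial is exact. -/
theorem exact_identity {A : Type*} [CommRing A] {P F : Polynomial A} {N : ℕ} (hP : P.Monic)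
    (hPd : P.natDegree = N) (hF : F.natDegree < N) (c : A)
    (h : (F.map (algebraMap A (AdjoinRoot P))).eval₂ (AdjoinRoot.of (P.map (algebraMap A (AdjoinRoot P))))
          (AdjoinRoot.of _ (AdjoinRoot.root P) + AdjoinRoot.root _ +
            AdjoinRoot.of _ (algebraMap A (AdjoinRoot P) c) * (AdjoinRoot.of _ (AdjoinRoot.root P) * AdjoinRoot.root _)) =
        AdjoinRoot.of _ ((F.map (algebraMap A (AdjoinRoot P))).eval (AdjoinRoot.root P)) *
          (F.map (algebraMap A (AdjoinRoot P))).eval₂ (AdjoinRoot.of _) (AdjoinRoot.root _))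
    {B : Type*} [CommRing B] (φ : A →+* B) (s t : B) :
    F.eval₂ φ (s + t + φ c * (s * t)) = F.eval₂ φ s * F.eval₂ φ t := by
  let a : Polynomial A := Polynomial.X
  let b : Polynomial A := 1 + Polynomial.C c * Polynomial.X
  let L : Polynomial (Polynomial A) := Polynomial.C a + Polynomial.C b * Polynomial.X
  let D : Polynomial (Polynomial A) := F.eval₂ (Polynomial.C.comp Polynomial.C) L - Polynomial.C F * F.map Polynomial.C
  have hDi : ∀ i, (D.coeff i).natDegree < N := fun i => by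
    rw [Polynomial.coeff_sub]
    refine lt_of_le_of_lt (Polynomial.natDegree_sub_le _ _) (max_lt ?_ ?_)
    · rw [Polynomial.eval₂_eq_sum, Polynomial.sum_def, Polynomial.finset_sum_coeff]
      refine lt_of_le_of_lt (Polynomial.natDegree_sum_le_of_forall_le _ _ fun j hj => ?_) hF
      rw [RingHom.comp_apply, Polynomial.coeff_C_mul]
      refine (Polynomial.natDegree_C_mul_le _ _).trans ((natDegree_coeff_pow_le ?_ ?_ j i).trans (Polynomial.le_natDegree_of_mem_supp j hj))
      · exact Polynomial.natDegree_X_le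
      · refine (Polynomial.natDegree_add_le _ _).trans (max_le (by simp) ?_)
        exact (Polynomial.natDegree_C_mul_le _ _).trans Polynomial.natDegree_X_le
    · rw [Polynomial.coeff_C_mul, Polynomial.coeff_map]
      exact lt_of_le_of_lt Polynomial.natDegree_mul_le (by rw [Polynomial.natDegree_C, add_zero]; exact hF)
  let ev : Polynomial A →+* AdjoinRoot P := AdjoinRoot.mk P
  let Q := P.map (algebraMap A (AdjoinRoot P))
  have hev : ev.comp Polynomial.C = algebraMap A (AdjoinRoot P) := RingHom.ext fun _ => rfl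
  have hevF : ev F = (F.map (algebraMap A (AdjoinRoot P))).eval (AdjoinRoot.root P) := by
    rw [Polynomial.eval_map, ← AdjoinRoot.aeval_eq]
    rfl
  have hL : L.map ev = Polynomial.C (AdjoinRoot.root P) + Polynomial.C (1 + algebraMap A (AdjoinRoot P) c * AdjoinRoot.root P) * Polynomial.X := by
    simp only [L, a, b, Polynomial.map_add, Polynomial.map_mul, Polynomial.map_C, Polynomial.map_X, Polynomial.map_one,
      map_add, map_one, map_mul]
    rfl
  have hDmap : D.map ev = 0 := by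
    have h1 : AdjoinRoot.mk Q (D.map ev) = 0 := by
      rw [Polynomial.map_sub, map_sub, sub_eq_zero, Polynomial.map_mul, map_mul, Polynomial.map_C, hevF]
      have e1 : ∀ (G : Polynomial (Polynomial A)), AdjoinRoot.mk Q (G.map ev) =
          G.eval₂ ((AdjoinRoot.of Q).comp ev) (AdjoinRoot.root Q) := fun G => by
        rw [← Polynomial.eval₂_map, ← AdjoinRoot.aeval_eq]
        rfl
      rw [e1, ← Polynomial.coe_eval₂RingHom, Polynomial.hom_eval₂ F (Polynomial.C.comp Polynomial.C)
        (Polynomial.eval₂RingHom ((AdjoinRoot.of Q).comp ev) (AdjoinRoot.root Q)) L, AdjoinRoot.mk_C]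
      rw [e1, Polynomial.eval₂_map]
      rw [Polynomial.eval₂_map, Polynomial.eval₂_map] at h
      convert h using 2
      · exact RingHom.ext fun x => by
          simp only [RingHom.comp_apply, Polynomial.coe_eval₂RingHom, Polynomial.eval₂_C]
          rfl
      · rw [show (Polynomial.eval₂RingHom ((AdjoinRoot.of Q).comp ev) (AdjoinRoot.root Q)) L =
          (L.map ev).eval₂ (AdjoinRoot.of Q) (AdjoinRoot.root Q) from (Polynomial.eval₂_map _ _ _).symm, hL]
        simp only [Polynomial.eval₂_add, Polynomial.eval₂_mul, Polynomial.eval₂_C, Polynomial.eval₂_X, Polynomial.eval₂_one,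
          map_add, map_one, map_mul, Q]
        ring
      · rw [RingHom.comp_assoc, hev]
    by_contra hne
    have hQm : Q.Monic := hP.map _
    have hdvd : Q ∣ D.map ev := AdjoinRoot.mk_eq_zero.1 h1
    have hne' : Nontrivial (AdjoinRoot P) := by
      by_contra hs
      rw [not_nontrivial_iff_subsingleton] at hs
      exact hne (Subsingleton.elim _ _)
    have h2 := Polynomial.Monic.not_dvd_of_natDegree_lt hQm hne (lt_of_le_of_lt (Polynomial.natDegree_map_le) ?_)
    · exact h2 hdvd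
    · rw [Polynomial.Monic.natDegree_map hP, hPd]
      refine lt_of_le_of_lt (Polynomial.natDegree_sub_le _ _) (max_lt ?_ ?_)
      · refine lt_of_le_of_lt ?_ hF
        rw [Polynomial.eval₂_eq_sum, Polynomial.sum_def]
        refine Polynomial.natDegree_sum_le_of_forall_le _ _ fun j hj => ?_
        rw [RingHom.comp_apply]
        refine (Polynomial.natDegree_C_mul_le _ _).trans ((Polynomial.natDegree_pow_le_of_le j (m := 1) ?_).trans ?_)
        · refine (Polynomial.natDegree_add_le _ _).trans (max_le (by simp) ?_)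
          exact (Polynomial.natDegree_C_mul_le _ _).trans Polynomial.natDegree_X_le
        · rw [_root_.mul_one]; exact Polynomial.le_natDegree_of_mem_supp j hj
      · exact lt_of_le_of_lt ((Polynomial.natDegree_C_mul_le _ _).trans Polynomial.natDegree_map_le) hF
  have hD : D = 0 := Polynomial.ext fun i => by
    rw [Polynomial.coeff_zero]
    by_contra hne
    refine hP.not_dvd_of_natDegree_lt hne (hPd.symm ▸ hDi i) (AdjoinRoot.mk_eq_zero.1 ?_)
    show ev (D.coeff i) = 0
    rw [← Polynomial.coeff_map, hDmap, Polynomial.coeff_zero]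
  have h3 := congrArg (Polynomial.eval₂RingHom (Polynomial.eval₂RingHom φ s) t) hD
  rw [map_zero, map_sub, map_mul, sub_eq_zero, Polynomial.hom_eval₂] at h3
  simp only [Polynomial.coe_eval₂RingHom, Polynomial.eval₂_C, Polynomial.eval₂_map] at h3
  have e2 : (Polynomial.eval₂RingHom (Polynomial.eval₂RingHom φ s) t).comp (Polynomial.C.comp Polynomial.C) = φ :=
    RingHom.ext fun x => by simp
  have e3 : (Polynomial.eval₂RingHom φ s).comp Polynomial.C = φ := RingHom.ext fun x => by simp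
  rw [e2, e3] at h3
  rw [← h3]
  congr 1
  simp [L, a, b]
  ring

attribute [local instance] secAlgebra

variable {R : Type u} [CommRing R] {X : Scheme.{u}} (f : X ⟶ Spec (CommRingCat.of R))

theorem chi_injective {T : Over X} {g g' : T ⟶ Red.bc f (Red.diag R ℤ)} (e : chi f g 1 = chi f g' 1) : g = g' := by
  refine down_injective f (ptHom_injective (A := MonoidAlgebra R (Multiplicative ℤ)) ?_)
  refine MonoidAlgebra.algHom_ext' (MonoidHom.ext_mint ?_) ?_
  · exact e
  · exact Subsingleton.elim _ _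

theorem exists_chi_eq {T : Over X} {v : Γ(T.left, ⊤)} (hv : IsUnit v) :
    ∃ g : T ⟶ Red.bc f (Red.diag R ℤ), chi f g 1 = v := by
  let v' : Γ((dn f T).left, ⊤)ˣ := hv.unit
  obtain ⟨x, hx⟩ := exists_ptHom_eq (T := dn f T) (A := MonoidAlgebra R (Multiplicative ℤ))
    (MonoidAlgebra.lift R Γ((dn f T).left, ⊤) (Multiplicative ℤ) ((Units.coeHom _).comp (zpowersHom _ v')))
  obtain ⟨g, hg⟩ := exists_down_eq f x
  refine ⟨g, ?_⟩
  rw [chi, hg]
  show ptHom x _ = v
  rw [hx, MonoidAlgebra.lift_single, one_smul]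
  simp [v']

theorem tK_one {lam : R} {N : ℕ} {h : DivCond lam N} {T : Over X} : tK f (1 : T ⟶ Red.bc f (GK R lam N h)) = 0 := by
  have e := tK_mul f (1 : T ⟶ Red.bc f (GK R lam N h)) 1
  rw [_root_.one_mul] at e
  exact (isUnit_tK f (1 : T ⟶ Red.bc f (GK R lam N h))).mul_right_eq_zero.1 (by linear_combination -e)

theorem tG_one {lam : R} {T : Over X} : tG f (1 : T ⟶ Red.bc f (G R lam)) = 0 := by
  have e := tG_mul f (1 : T ⟶ Red.bc f (G R lam)) 1
  rw [_root_.one_mul] at e
  exact (isUnit_tG f (1 : T ⟶ Red.bc f (G R lam))).mul_right_eq_zero.1 (by linear_combination -e)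

theorem exists_tK_eq {lam : R} {N : ℕ} (h : DivCond lam N) (hN : 0 < N) {T : Over X} (b : Γ(T.left, ⊤))
    (hb : (psiPoly lam N h).eval₂ (sc f T) b = 0) : ∃ g : T ⟶ Red.bc f (GK R lam N h), tK f g = b := by
  let b' : Γ((dn f T).left, ⊤) := b
  obtain ⟨x, hx⟩ := exists_ptHom_eq (T := dn f T) (A := AK R lam N h)
    ((AdjoinRoot.liftAlgHom (psiPoly lam N h) (Algebra.ofId R Γ((dn f T).left, ⊤)) b' hb).comp (akEquiv h hN).symm.toAlgHom)
  obtain ⟨g, hg⟩ := exists_down_eq f x
  refine ⟨g, ?_⟩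
  rw [tK, hg]
  show ptHom x AK.t = b
  rw [hx, AlgHom.comp_apply]
  have e : (akEquiv h hN) (AdjoinRoot.root (psiPoly lam N h)) = AK.t :=
    AdjoinRoot.liftAlgHom_root (psiPoly lam N h) (Algebra.ofId R _) AK.t AK.aeval_t
  have e' : (akEquiv h hN).symm.toAlgHom AK.t = AdjoinRoot.root (psiPoly lam N h) := by
    show (akEquiv h hN).symm AK.t = _
    exact (akEquiv h hN).symm_apply_eq.mpr e.symm
  exact (congrArg _ e').trans (AdjoinRoot.liftAlgHom_root _ _ _ _)

theorem tG_incl {lam : R} {N : ℕ} {h : DivCond lam N} {T : Over X} (g : T ⟶ Red.bc f (GK R lam N h)) :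
    tG f (g ≫ (Over.pullback f).map (incl R lam N h)) = tK f g := by
  rw [tG, down_comp_map]
  exact (DFunLike.congr_fun (ptHom_comp (down f g)
    (AK.mkHom R lam N h : A R lam →ₐ[R] AK R lam N h) (incl R lam N h) rfl) A.t)

variable {R : Type u} [CommRing R] {R' : Type u} [CommRing R'] (q : R →+* R')

/-- The scalars from the ring of the base. -/
def scb (T : Over (Spec (CommRingCat.of R'))) : R' →+* Γ(T.left, ⊤) :=
  ((Scheme.ΓSpecIso (CommRingCat.of R')).inv ≫ T.hom.appTop).hom

theorem sc_eq_scb (T : Over (Spec (CommRingCat.of R'))) :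
    sc (Spec.map (CommRingCat.ofHom q)) T = (scb T).comp q := by
  rw [sc_eq, Scheme.Hom.comp_appTop, ← Scheme.ΓSpecIso_inv_naturality_assoc]
  rfl

theorem scb_map {T T' : Over (Spec (CommRingCat.of R'))} (k : T' ⟶ T) :
    k.left.appTop.hom.comp (scb T) = scb T' := by
  rw [scb, scb, ← Over.w k, Scheme.Hom.comp_appTop]
  rfl

/-- **Characters of `G_{μ,N}` over `R'` extend to `G^(μ)`.** -/
theorem exists_extension {mu : R} {N : ℕ} (h : DivCond mu N) (hN : 1 < N)
    (φ : Red.bc (Spec.map (CommRingCat.ofHom q)) (GK R mu N h) ⟶ Red.bc (Spec.map (CommRingCat.ofHom q)) (Red.diag R ℤ))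
    [IsMonHom φ] :
    ∃ ψ : Red.bc (Spec.map (CommRingCat.ofHom q)) (G R mu) ⟶ Red.bc (Spec.map (CommRingCat.ofHom q)) (Red.diag R ℤ),
      IsMonHom ψ ∧ (Over.pullback (Spec.map (CommRingCat.ofHom q))).map (incl R mu N h) ≫ ψ = φ := by
  rcases subsingleton_or_nontrivial R' with hR' | hR'
  · -- over the zero ring every scheme is empty
    have hz : ∀ T : Over (Spec (CommRingCat.of R')), Subsingleton Γ(T.left, ⊤) := fun T =>
      subsingleton_of_zero_eq_one (by rw [← map_zero (scb T), ← map_one (scb T), Subsingleton.elim (0 : R') 1])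
    obtain ⟨ψ, -⟩ := exists_chi_eq (Spec.map (CommRingCat.ofHom q))
      (T := Red.bc (Spec.map (CommRingCat.ofHom q)) (G R mu)) (v := 1) isUnit_one
    refine ⟨ψ, DiagRig.isMonHom_of_pts _ fun Y p p' => chi_injective _ ((hz Y).elim _ _), chi_injective _ ((hz _).elim _ _)⟩
  let f := Spec.map (CommRingCat.ofHom q)
  let φ' : Red.bc f (GK R mu N h) ⟶ Red.bc f (Red.diag R ℤ) := φ
  have hN0 : 0 < N := by omega
  let P := (psiPoly mu N h).map q
  have hPm : P.Monic := (psiPoly_monic h hN0).map q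
  have hPd : P.natDegree = N := by
    refine le_antisymm (Polynomial.natDegree_map_le.trans (psiPoly_natDegree_le h))
      (Polynomial.le_natDegree_of_ne_zero ?_)
    rw [Polynomial.coeff_map, psiPoly_coeff_self h hN0, map_one]
    exact one_ne_zero
  -- universal truncated point
  let mkT : ∀ (B : Type u) [CommRing B] (_ : R' →+* B), Over (Spec (CommRingCat.of R')) := fun B _ β =>
    Over.mk (Spec.map (CommRingCat.ofHom β))
  let Q₁ := AdjoinRoot P
  let T₁ := mkT Q₁ (algebraMap R' Q₁)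
  let ι₁ : Q₁ →+* Γ(T₁.left, ⊤) := (Scheme.ΓSpecIso (CommRingCat.of Q₁)).inv.hom
  have hscb : ∀ (B : Type u) [CommRing B] (β : R' →+* B),
      scb (mkT B β) = (Scheme.ΓSpecIso (CommRingCat.of B)).inv.hom.comp β := fun B _ β => by
    show ((Scheme.ΓSpecIso (CommRingCat.of R')).inv ≫ (Spec.map (CommRingCat.ofHom β)).appTop).hom = _
    rw [← Scheme.ΓSpecIso_inv_naturality]
    rfl
  obtain ⟨g₁, hg₁⟩ := exists_tK_eq f h hN0 (T := T₁) (ι₁ (AdjoinRoot.root P)) (by
    rw [sc_eq_scb, hscb, ← Polynomial.eval₂_map, ← Polynomial.hom_eval₂]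
    show ι₁ (P.eval₂ (algebraMap R' Q₁) (AdjoinRoot.root P)) = 0
    rw [AdjoinRoot.algebraMap_eq, AdjoinRoot.eval₂_root, map_zero])
  let e₁ : Γ(T₁.left, ⊤) → Q₁ := (Scheme.ΓSpecIso (CommRingCat.of Q₁)).hom.hom
  have hφmul : ∀ (T : Over (Spec (CommRingCat.of R'))) (a b : T ⟶ Red.bc f (GK R mu N h)),
      (a * b) ≫ φ = (a ≫ φ) * (b ≫ φ) := fun T a b => MonObj.mul_comp a b φ
  have hsc : ∀ T : Over (Spec (CommRingCat.of R')), sc f T mu = scb T (q mu) := fun T =>
    DFunLike.congr_fun (sc_eq_scb q T) mu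
  obtain ⟨F₀, hF₀⟩ := AdjoinRoot.mk_surjective (g := P) (e₁ (chi f (g₁ ≫ φ) 1))
  let F := F₀ %ₘ P
  have hFd : F.natDegree < N := hPd ▸ Polynomial.natDegree_modByMonic_lt _ hPm (fun e => by
    rw [e, Polynomial.natDegree_one] at hPd; omega)
  have hFv : chi f (g₁ ≫ φ) 1 = F.eval₂ (scb T₁) (ι₁ (AdjoinRoot.root P)) := by
    rw [hscb, ← Polynomial.hom_eval₂]
    show _ = ι₁ (F.eval₂ (AdjoinRoot.of P) (AdjoinRoot.root P))
    rw [show F.eval₂ (AdjoinRoot.of P) (AdjoinRoot.root P) = AdjoinRoot.mk P F from AdjoinRoot.aeval_eq F]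
    rw [show AdjoinRoot.mk P F = AdjoinRoot.mk P F₀ from AdjoinRoot.mk_eq_mk.2 ?_, hF₀]
    · exact ((Scheme.ΓSpecIso (CommRingCat.of Q₁)).hom_inv_id_apply _).symm
    · rw [show F = F₀ - P * (F₀ /ₘ P) from Polynomial.modByMonic_eq_sub_mul_div F₀ P]
      exact ⟨-(F₀ /ₘ P), by ring⟩
  have hval : ∀ (T : Over (Spec (CommRingCat.of R'))) (g : T ⟶ Red.bc f (GK R mu N h)),
      chi f (g ≫ φ) 1 = F.eval₂ (scb T) (tK f g) := by
    intro T g
    have hroot : P.eval₂ (scb T) (tK f g) = 0 := by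
      rw [Polynomial.eval₂_map, ← sc_eq_scb]
      exact aeval_tK f g
    let β : Q₁ →+* Γ(T.left, ⊤) := AdjoinRoot.lift (scb T) (tK f g) hroot
    let k : T ⟶ T₁ := Over.homMk (T.left.toSpecΓ ≫ Spec.map (CommRingCat.ofHom β)) (by
      show (T.left.toSpecΓ ≫ Spec.map (CommRingCat.ofHom β)) ≫ Spec.map (CommRingCat.ofHom (algebraMap R' Q₁)) = T.hom
      rw [Category.assoc, ← Spec.map_comp]
      refine ext_of_isAffine ?_
      rw [← cancel_epi (Scheme.ΓSpecIso (CommRingCat.of R')).inv, Scheme.Hom.comp_appTop,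
        ← Scheme.ΓSpecIso_inv_naturality_assoc, Scheme.toSpecΓ_appTop]
      rw [Iso.inv_hom_id, Category.comp_id]
      ext r
      show β ((algebraMap R' Q₁) r) = scb T r
      rw [AdjoinRoot.algebraMap_eq]
      exact AdjoinRoot.lift_of hroot)
    have hk : k.left.appTop.hom.comp ι₁ = β := by
      refine RingHom.ext fun x => ?_
      show ((Scheme.ΓSpecIso (CommRingCat.of Q₁)).inv ≫ (T.left.toSpecΓ ≫ Spec.map (CommRingCat.ofHom β)).appTop).hom x = β x
      rw [Scheme.Hom.comp_appTop, ← Scheme.ΓSpecIso_inv_naturality_assoc, Scheme.toSpecΓ_appTop]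
      simp
    have hg : g = k ≫ g₁ := tK_injective f (by
      rw [tK_comp, hg₁]
      show _ = (k.left.appTop.hom.comp ι₁) (AdjoinRoot.root P)
      rw [hk]
      exact (AdjoinRoot.lift_root hroot).symm)
    rw [hg, Category.assoc, chi_comp, hFv, Polynomial.hom_eval₂, scb_map, ← hg]
    congr 1
    show (k.left.appTop.hom.comp ι₁) (AdjoinRoot.root P) = _
    rw [hk]
    exact AdjoinRoot.lift_root hroot
  have hF0 : ∀ T : Over (Spec (CommRingCat.of R')), F.eval₂ (scb T) 0 = 1 := fun T => by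
    have h1 := congrArg (fun g => chi f g 1) (hφmul T 1 1)
    simp only [chi_mul, _root_.one_mul] at h1
    rw [← tK_one f (h := h) (T := T), ← hval]
    exact (isUnit_chi f ((1 : T ⟶ Red.bc f (GK R mu N h)) ≫ φ) 1).mul_eq_left.1 h1.symm
  -- the identity on the square of the kernel
  let P' := P.map (algebraMap R' Q₁)
  let Q₂ := AdjoinRoot P'
  let T₂ := mkT Q₂ ((AdjoinRoot.of P').comp (algebraMap R' Q₁))
  let ι₂ : Q₂ →+* Γ(T₂.left, ⊤) := (Scheme.ΓSpecIso (CommRingCat.of Q₂)).inv.hom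
  obtain ⟨gs, hgs⟩ := exists_tK_eq f h hN0 (T := T₂) (ι₂ (AdjoinRoot.of P' (AdjoinRoot.root P))) (by
    rw [sc_eq_scb, hscb, ← Polynomial.eval₂_map, ← Polynomial.hom_eval₂]
    show ι₂ _ = 0
    rw [← Polynomial.hom_eval₂, AdjoinRoot.algebraMap_eq, AdjoinRoot.eval₂_root, map_zero, map_zero])
  obtain ⟨gt, hgt⟩ := exists_tK_eq f h hN0 (T := T₂) (ι₂ (AdjoinRoot.root P')) (by
    rw [sc_eq_scb, hscb, ← Polynomial.eval₂_map, ← Polynomial.hom_eval₂]
    show ι₂ _ = 0
    rw [← Polynomial.eval₂_map, AdjoinRoot.eval₂_root, map_zero])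
  have hid₀ := congrArg (fun g => chi f g 1) (hφmul T₂ gs gt)
  simp only [chi_mul, hval, tK_mul, hgs, hgt, hsc, RingHom.comp_apply, hscb] at hid₀
  have hmap : ι₂ (AdjoinRoot.of P' (AdjoinRoot.root P) + AdjoinRoot.root P' +
      AdjoinRoot.of P' (algebraMap R' Q₁ (q mu)) * (AdjoinRoot.of P' (AdjoinRoot.root P) * AdjoinRoot.root P')) =
      ι₂ (AdjoinRoot.of P' (AdjoinRoot.root P)) + ι₂ (AdjoinRoot.root P') +
        ι₂ (AdjoinRoot.of P' (algebraMap R' Q₁ (q mu))) * (ι₂ (AdjoinRoot.of P' (AdjoinRoot.root P)) * ι₂ (AdjoinRoot.root P')) := by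
    simp only [map_add, map_mul]
  have hid : ∀ (B : Type u) [CommRing B] (γ : R' →+* B) (s t : B),
      F.eval₂ γ (s + t + γ (q mu) * (s * t)) = F.eval₂ γ s * F.eval₂ γ t := fun B _ γ s t => exact_identity hPm hPd hFd (q mu) ((Scheme.ΓSpecIso (CommRingCat.of Q₂)).commRingCatIsoToRingEquiv.symm.injective (by
    show ι₂ _ = ι₂ _
    rw [Polynomial.eval₂_map, Polynomial.eval₂_map, Polynomial.eval_map, Polynomial.hom_eval₂, map_mul,
      Polynomial.hom_eval₂, Polynomial.hom_eval₂, Polynomial.hom_eval₂, hmap]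
    rw [show scb T₂ = ι₂.comp ((AdjoinRoot.of P').comp (algebraMap R' Q₁)) from hscb Q₂ _] at hid₀
    exact hid₀)) γ s t
  -- the extension
  let T₀ := Red.bc f (G R mu)
  have hu : IsUnit (F.eval₂ (scb T₀) (tG f (𝟙 T₀))) := by
    refine IsUnit.of_mul_eq_one (F.eval₂ (scb T₀) (tG f (𝟙 T₀ : T₀ ⟶ Red.bc f (G R mu))⁻¹)) ?_
    rw [← hid]
    have e := tG_mul f (𝟙 T₀ : T₀ ⟶ Red.bc f (G R mu)) (𝟙 T₀)⁻¹
    rw [mul_inv_cancel, tG_one, hsc] at e
    rw [← e]
    exact hF0 T₀
  obtain ⟨ψ, hψ⟩ := exists_chi_eq f hu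
  have hψv : ∀ (T : Over (Spec (CommRingCat.of R'))) (g : T ⟶ Red.bc f (G R mu)),
      chi f (g ≫ ψ) 1 = F.eval₂ (scb T) (tG f g) := fun T g => by
    rw [chi_comp, hψ, Polynomial.hom_eval₂, scb_map]
    show F.eval₂ _ (g.left.appTop (tG f (𝟙 T₀ : T₀ ⟶ Red.bc f (G R mu)))) = _
    rw [← tG_comp, Category.comp_id]
  refine ⟨ψ, DiagRig.isMonHom_of_pts _ fun Y g g' => chi_injective f ?_, chi_injective f ?_⟩
  · rw [chi_mul, hψv, hψv, hψv, tG_mul, hsc]
    exact hid _ (scb Y) _ _
  · rw [hψv, ← Category.id_comp φ, hval, ← tG_incl, Category.id_comp]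

end Groth.Agent.SekTors.CharLift
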