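import Groth.Agent.SekTors.Pts
import Groth.Agent.SekLib.AutTrivial
import Groth.Agent.SekLib.GKFree
import Mathlib.RingTheory.AdjoinRoot
import Mathlib.AlgebraicGeometry.Sites.Fpqc

/-!
# The torsor P(T) = a under G_{λ,N}
-/

set_option autoImplicit false
set_option linter.style.haveILetI false

universe u

open CategoryTheory CategoryTheory.Limits MonoidalCategory CartesianMonoidalCategory MonObj AlgebraicGeometry SekSuwa
open Groth.Agent.SekLib Polynomial

namespace Groth.Agent.SekTors

noncomputable section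

attribute [local instance] secAlgebra

variable {R : Type u} [CommRing R] {lam : R} {N : ℕ} (h : DivCond lam N) (a : R)

theorem aeval_cocycle {B : Type u} [CommRing B] [Algebra R B] (s t : B) :
    aeval (s + t + algebraMap R B lam * s * t) (psiPoly lam N h) =
      aeval s (psiPoly lam N h) + aeval t (psiPoly lam N h) +
        algebraMap R B (lam ^ N) * aeval s (psiPoly lam N h) * aeval t (psiPoly lam N h) := by
  have e := congrArg (MvPolynomial.aeval (R := R) ![s, t]) (psiPoly_cocycle h)
  simp only [map_add, map_mul, ← Polynomial.aeval_algHom_apply, MvPolynomial.aeval_X, MvPolynomial.aeval_C] at e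
  simpa using e

/-- The coordinate ring of the torsor. -/
abbrev Bq : Type u := AdjoinRoot (psiPoly lam N h - Polynomial.C a)

/-- The torsor P(T) = a. -/
abbrev Qa : Over (Spec (CommRingCat.of R)) := specOver R (Bq h a)

variable {h a}

/-- The coordinate of a point of the group. -/
abbrev tt {T : Over (Spec (CommRingCat.of R))} (x : T ⟶ GK R lam N h) : Γ(T.left, ⊤) :=
  ptHom (A := AK R lam N h) x AK.t

theorem aeval_tt {T : Over (Spec (CommRingCat.of R))} (x : T ⟶ GK R lam N h) :
    aeval (tt x) (psiPoly lam N h) = 0 := by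
  rw [Polynomial.aeval_algHom_apply, AK.aeval_t, map_zero]

theorem tt_mul {T : Over (Spec (CommRingCat.of R))} (x y : T ⟶ GK R lam N h) :
    tt (x * y) = tt x + tt y + algebraMap R _ lam * (tt x * tt y) := by
  refine (ptHom_mul _ _ _).trans ?_
  rw [AK.comul_t, map_add, map_add, map_smul, Algebra.TensorProduct.lift_tmul, Algebra.TensorProduct.lift_tmul,
    Algebra.TensorProduct.lift_tmul, map_one, map_one, _root_.mul_one, _root_.one_mul, Algebra.smul_def]

theorem tt_one (T : Over (Spec (CommRingCat.of R))) : tt (1 : T ⟶ GK R lam N h) = 0 := by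
  have e := tt_mul (1 : T ⟶ GK R lam N h) 1
  rw [_root_.mul_one] at e
  have hu : IsUnit (1 + algebraMap R Γ(T.left, ⊤) lam * tt (1 : T ⟶ GK R lam N h)) := by
    have e := pt_inv h (ptHom (A := AK R lam N h) (1 : T ⟶ GK R lam N h))
    rw [Algebra.smul_def] at e
    exact IsUnit.of_mul_eq_one _ e
  refine hu.mul_right_eq_zero.1 ?_
  linear_combination -e

/-- The coordinate of a point of the torsor. -/
abbrev sQ {T : Over (Spec (CommRingCat.of R))} (y : T ⟶ Qa h a) : Γ(T.left, ⊤) :=
  ptHom (A := Bq h a) y (AdjoinRoot.root _)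

theorem aeval_sQ {T : Over (Spec (CommRingCat.of R))} (y : T ⟶ Qa h a) :
    aeval (sQ y) (psiPoly lam N h) = algebraMap R _ a := by
  have e : aeval (AdjoinRoot.root (psiPoly lam N h - Polynomial.C a)) (psiPoly lam N h) = algebraMap R (Bq h a) a := by
    have e0 := AdjoinRoot.eval₂_root (psiPoly lam N h - Polynomial.C a)
    rw [eval₂_sub, eval₂_C, sub_eq_zero] at e0
    exact e0
  rw [Polynomial.aeval_algHom_apply, e, AlgHom.commutes]

theorem sQ_injective {T : Over (Spec (CommRingCat.of R))} {y y' : T ⟶ Qa h a} (e : sQ y = sQ y') : y = y' :=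
  ptHom_injective (A := Bq h a) (AdjoinRoot.algHom_ext e)

theorem exists_sQ_eq {T : Over (Spec (CommRingCat.of R))} (s : Γ(T.left, ⊤))
    (hs : aeval s (psiPoly lam N h) = algebraMap R _ a) : ∃ y : T ⟶ Qa h a, sQ y = s := by
  obtain ⟨y, hy⟩ := exists_ptHom_eq (A := Bq h a) (AdjoinRoot.liftAlgHom (psiPoly lam N h - Polynomial.C a)
    (Algebra.ofId R Γ(T.left, ⊤)) s (by
      rw [eval₂_sub, eval₂_C, sub_eq_zero]
      exact hs))
  exact ⟨y, by rw [sQ, hy, AdjoinRoot.liftAlgHom_root]⟩

variable (h a)

/-- The action of G_{λ,N}. -/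
theorem exists_action (hN : 0 < N) : ∃ b : AlgGrp.Action (GK R lam N h) (Qa h a),
    ∀ {T : Over (Spec (CommRingCat.of R))} (x : T ⟶ GK R lam N h) (y : T ⟶ Qa h a),
      sQ (lift x y ≫ b.act) = tt x + sQ y + algebraMap R _ lam * (tt x * sQ y) := by
  let T₀ := GK R lam N h ⊗ Qa h a
  let x₀ : T₀ ⟶ GK R lam N h := fst _ _
  let y₀ : T₀ ⟶ Qa h a := snd _ _
  obtain ⟨act, hact⟩ := exists_sQ_eq (h := h) (a := a) (tt x₀ + sQ y₀ + algebraMap R _ lam * tt x₀ * sQ y₀) (by
    rw [aeval_cocycle, aeval_tt, aeval_sQ]; ring)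
  have key : ∀ {T : Over (Spec (CommRingCat.of R))} (x : T ⟶ GK R lam N h) (y : T ⟶ Qa h a),
      sQ (lift x y ≫ act) = tt x + sQ y + algebraMap R _ lam * (tt x * sQ y) := by
    intro T x y
    have e1 : ∀ z : Γ(T₀.left, ⊤), sQ (lift x y ≫ act) = (lift x y).left.appTop (sQ act) := fun _ => rfl
    have hc : ∀ r : R, (lift x y).left.appTop (algebraMap R Γ(T₀.left, ⊤) r) = algebraMap R Γ(T.left, ⊤) r :=
      fun r => by
      show (((Scheme.ΓSpecIso _).inv ≫ T₀.hom.appTop) ≫ (lift x y).left.appTop).hom r = _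
      rw [Category.assoc, ← Scheme.Hom.comp_appTop, Over.w]
      rfl
    have hx : (lift x y).left.appTop (tt x₀) = tt x := by
      rw [← ptHom_comp_left, lift_fst]
    have hy : (lift x y).left.appTop (sQ y₀) = sQ y := by
      rw [← ptHom_comp_left, lift_snd]
    rw [e1 (sQ y₀), hact, map_add, map_add, map_mul, map_mul, hc, hx, hy, _root_.mul_assoc]
  refine ⟨{ act := act, one_act := ?_, mul_act := ?_ }, key⟩
  · refine sQ_injective ?_
    have : (η[GK R lam N h] ▷ Qa h a) = lift (1 : 𝟙_ _ ⊗ Qa h a ⟶ GK R lam N h) (snd _ _) := by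
      refine CartesianMonoidalCategory.hom_ext _ _ ?_ ?_
      · rw [whiskerRight_fst, lift_fst, Hom.one_def, toUnit_unique (toUnit _) (fst (𝟙_ _) (Qa h a))]
      · simp
    rw [this, key, tt_one, leftUnitor_hom]
    ring
  · apply AlgGrp.Action.hom_ext_lift₃
    intro T g g' x
    refine sQ_injective ?_
    rw [lift_whiskerRight_assoc, ← Hom.mul_def, key, tt_mul, lift_lift_associator_hom_assoc, lift_whiskerLeft_assoc,
      key, key]
    ring

/-- P(T) = a is a torsor under G_{λ,N} if 1 + λ^N a is a unit. -/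
theorem exists_torsor [Nontrivial R] (hN : 0 < N) (ha : IsUnit (1 + lam ^ N * a)) :
    ∃ b : AlgGrp.Action (GK R lam N h) (Qa h a), NonAbH1.IsTorsorFor Scheme.fppfPrecoverage b ∧
      ∀ {T : Over (Spec (CommRingCat.of R))} (x : T ⟶ GK R lam N h) (y : T ⟶ Qa h a),
        sQ (lift x y ≫ b.act) = tt x + sQ y + algebraMap R _ lam * (tt x * sQ y) := by
  obtain ⟨b, hb⟩ := exists_action h a hN
  refine ⟨b, ⟨?_, ?_⟩, hb⟩
  · let T₀ := Qa h a ⊗ Qa h a
    have hd : ∀ {T : Over (Spec (CommRingCat.of R))} (x y : T ⟶ Qa h a),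
        ∃! g : T ⟶ GK R lam N h, lift g x ≫ b.act = y := by
      intro T x y
      let A := Γ(T.left, ⊤)
      have hpow : (1 + algebraMap R A lam * sQ x) ^ N = algebraMap R A (1 + lam ^ N * a) := by
        have e := aeval_psiPoly h (sQ x)
        rw [aeval_sQ] at e
        rw [map_add, map_one, map_mul]
        linear_combination -e
      have hu : IsUnit (1 + algebraMap R A lam * sQ x) :=
        (isUnit_pow_iff hN.ne').1 (hpow ▸ ha.map (algebraMap R A))
      obtain ⟨c, hc⟩ := hu.exists_right_inv
      let t : A := (sQ y - sQ x) * c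
      have hy : t + sQ x + algebraMap R A lam * t * sQ x = sQ y := by
        linear_combination (sQ y - sQ x) * hc
      have ht : aeval t (psiPoly lam N h) = 0 := by
        have e := aeval_cocycle h t (sQ x)
        rw [hy, aeval_sQ, aeval_sQ] at e
        refine (ha.map (algebraMap R A)).mul_right_eq_zero.1 ?_
        rw [map_add, map_one, map_mul]
        linear_combination -e
      obtain ⟨φ, hφ⟩ := exists_pt h hN t ht
      obtain ⟨g, hg⟩ := exists_ptHom_eq (A := AK R lam N h) φ
      have hgt : tt g = t := by rw [tt, hg, hφ]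
      refine ⟨g, sQ_injective ?_, fun g' hg' => ptHom_injective (A := AK R lam N h) (pt_ext h ?_)⟩
      · rw [hb, hgt, ← hy]; ring
      · show tt g' = tt g
        rw [hgt]
        have e := congrArg sQ hg'
        rw [hb] at e
        linear_combination c * e - tt g' * hc
    let dg := (hd (snd (Qa h a) (Qa h a)) (fst _ _)).choose
    have hdg : lift dg (snd (Qa h a) (Qa h a)) ≫ b.act = fst _ _ := (hd _ (fst _ _)).choose_spec.1
    refine ⟨lift dg (snd (Qa h a) (Qa h a)), ?_, ?_⟩
    · rw [comp_lift, lift_snd, ← lift_fst_snd]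
      refine congrArg (fun g => lift g (snd (GK R lam N h) (Qa h a))) ?_
      refine (hd (snd _ _) b.act).unique ?_ (by rw [lift_fst_snd, Category.id_comp])
      have := congrArg (lift b.act (snd (GK R lam N h) (Qa h a)) ≫ ·) hdg
      simp only [comp_lift_assoc, lift_snd, lift_fst] at this
      exact this
    · rw [comp_lift, hdg, lift_snd, lift_fst_snd]
  · let g := psiPoly lam N h - Polynomial.C a
    have hd : (psiPoly lam N h).natDegree = N := psiPoly_natDegree h hN
    have hg : g.Monic := by
      refine (psiPoly_monic h hN).sub_of_left ?_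
      refine (degree_C_le).trans_lt ?_
      rw [degree_eq_natDegree (psiPoly_monic h hN).ne_zero, hd]
      exact_mod_cast hN
    haveI : Module.Free R (Bq h a) := hg.free_adjoinRoot
    haveI : Module.Finite R (Bq h a) := hg.finite_adjoinRoot
    haveI : Nontrivial (Bq h a) := ⟨_, _, (AdjoinRoot.powerBasis' hg).basis.ne_zero
      ⟨0, by show 0 < g.natDegree; rw [natDegree_sub_C, hd]; exact hN⟩⟩
    haveI : Module.FaithfullyFlat R (Bq h a) := inferInstance
    let q : Spec (CommRingCat.of (Bq h a)) ⟶ Spec (CommRingCat.of R) :=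
      Spec.map (CommRingCat.ofHom (algebraMap R (Bq h a)))
    haveI : Flat q := Groth.Agent.GLDescent.flat_specMap
    haveI : Surjective q :=
      ⟨PrimeSpectrum.comap_surjective_of_faithfullyFlat (A := R) (B := Bq h a)⟩
    haveI : LocallyOfFinitePresentation q := by
      rw [HasRingHomProperty.Spec_iff (P := @LocallyOfFinitePresentation)]
      exact RingHom.finitePresentation_algebraMap.2
        inferInstance
    refine ⟨Presieve.singleton q, Scheme.Hom.singleton_mem_fppfPrecoverage q, ?_⟩
    rintro S' f ⟨⟩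
    exact ⟨𝟙 _, Category.id_comp _⟩

end

end Groth.Agent.SekTors
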