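import Groth.Agent.SekTors.Core
import Mathlib.RingTheory.DiscreteValuationRing.Basic
import Mathlib.RingTheory.Valuation.ValuationRing

/-!
# Faithfully flat schemes over a discrete valuation ring reflect units and divisibility
-/

set_option autoImplicit false
set_option linter.style.haveILetI false

universe u

open CategoryTheory CategoryTheory.Limits AlgebraicGeometry
open Groth.Agent.SekLib

namespace Groth.Agent.SekTors

noncomputable section

variable {R : Type u} [CommRing R] [IsLocalRing R] {X : Scheme.{u}} (f : X ⟶ Spec (CommRingCat.of R)) {T : Over X}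

theorem isUnit_of_isUnit_add [Surjective (T.hom ≫ f)] {c q : R} (hq : ¬ IsUnit q) {y : Γ(T.left, ⊤)}
    (h : IsUnit (sc f T c + sc f T q * y)) : IsUnit c := by
  by_contra hc
  obtain ⟨t, ht⟩ := (T.hom ≫ f).surjective (IsLocalRing.closedPoint R : PrimeSpectrum R)
  have hm : ∀ r : R, ¬ IsUnit r → ¬ IsUnit (T.left.presheaf.germ ⊤ t trivial (sc f T r)) := fun r hr hu => by
    have h1 : t ∈ T.left.basicOpen (sc f T r) := (Scheme.mem_basicOpen T.left (U := ⊤) (sc f T r) t trivial).2 hu
    rw [sc_eq, CommRingCat.comp_apply] at h1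
    have h2 : t ∈ (T.hom ≫ f) ⁻¹ᵁ (Spec (CommRingCat.of R)).basicOpen ((Scheme.ΓSpecIso (CommRingCat.of R)).inv r) := by
      rw [Scheme.preimage_basicOpen_top]
      exact h1
    have h3 : (IsLocalRing.closedPoint R : PrimeSpectrum R) ∈ PrimeSpectrum.basicOpen r := by
      rw [← ht]
      rw [basicOpen_eq_of_affine] at h2
      exact h2
    exact h3 ((IsLocalRing.mem_maximalIdeal r).2 hr)
  have e := h.map (T.left.presheaf.germ ⊤ t trivial).hom
  rw [map_add, map_mul] at e
  refine (IsLocalRing.mem_maximalIdeal _).1 (Ideal.add_mem _ ?_ (Ideal.mul_mem_right _ _ ?_)) e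
  · exact (IsLocalRing.mem_maximalIdeal _).2 (hm c hc)
  · exact (IsLocalRing.mem_maximalIdeal _).2 (hm q hq)

theorem isUnit_of_isUnit_sc [Surjective (T.hom ≫ f)] {c : R} (h : IsUnit (sc f T c)) : IsUnit c :=
  isUnit_of_isUnit_add f (T := T) (q := 0) not_isUnit_zero (y := 0) (by rwa [mul_zero, add_zero])

theorem dvd_of_sc_eq_mul [IsDomain R] [ValuationRing R] [Flat (T.hom ≫ f)] [Surjective (T.hom ≫ f)] {r c : R}
    {x : Γ(T.left, ⊤)} (h : sc f T r = sc f T c * x) : c ∣ r := by
  rcases ValuationRing.dvd_total c r with h' | ⟨c', hc'⟩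
  · exact h'
  by_cases hr : r = 0
  · subst hr; exact dvd_zero c
  have e : sc f T r * 1 = sc f T r * (sc f T c' * x) := by
    rw [mul_one, ← mul_assoc, ← map_mul, ← hc']
    exact h
  obtain ⟨v, hv⟩ := isUnit_of_isUnit_sc f
    (IsUnit.of_mul_eq_one x (sc_mul_cancel f (mem_nonZeroDivisors_of_ne_zero hr) e).symm)
  exact ⟨↑v⁻¹, by rw [hc', ← hv, Units.mul_inv_cancel_right]⟩

end

end Groth.Agent.SekTors
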