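import Groth.Agent.SekTors.Core
import Groth.Agent.SekTors.Qa
import Groth.Agent.SekTors.Reflect
import Mathlib.FieldTheory.Perfect
import Mathlib.Algebra.CharP.Lemmas

/-!
# Torsors under G_{λ,N} whose Kummer class comes from the base
-/

set_option autoImplicit false
set_option linter.style.haveILetI false

universe u

open CategoryTheory CategoryTheory.Limits MonoidalCategory CartesianMonoidalCategory MonObj AlgebraicGeometry SekSuwa
open Groth.Agent.SekLib Groth.Agent.GITLib

namespace Groth.Agent.SekTors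

noncomputable section

variable {R : Type u} [CommRing R]

theorem isReduced_pullback_of_ideal_eq [IsLocalRing R] {X : Scheme.{u}} (f : X ⟶ Spec (CommRingCat.of R))
    [IsReduced (pullback f (Spec.map (CommRingCat.ofHom (IsLocalRing.residue R))))] {I : Ideal R}
    (hI : I = IsLocalRing.maximalIdeal R) :
    IsReduced (pullback f (Spec.map (CommRingCat.ofHom (Ideal.Quotient.mk I)))) := by
  subst hI
  assumption

/-- (1 + π^i Y)^N = 1 + π^{iN} (Y^N + π·...) once π^{i+1} divides λ. -/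
theorem exists_pow_expansion {lam : R} {N : ℕ} (h : DivCond lam N) (hN : 0 < N) {ϖ μ' : R} {i : ℕ}
    (hlam : lam = ϖ ^ (i + 1) * μ') {B : Type*} [CommRing B] (σ : R →+* B) (b : B) :
    ∃ e : B, (1 + σ (ϖ ^ i) * b) ^ N = 1 + σ (ϖ ^ (i * N)) * (b ^ N + σ ϖ * e) := by
  have hcoef : ∀ m, 0 < m → m < N → ∃ c : R, (N.choose m : R) * ϖ ^ (i * m) = ϖ ^ (i * N + 1) * c := by
    intro m hm0 hm
    have e := congrArg (fun p : Polynomial R => p.coeff m) (psiPoly_spec h)
    simp only [Polynomial.coeff_C_mul, Polynomial.coeff_sub, Polynomial.coeff_one] at e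
    rw [if_neg hm0.ne', sub_zero, show (1 + Polynomial.C lam * Polynomial.X) =
      (1 + Polynomial.X : Polynomial R).comp (Polynomial.C lam * Polynomial.X) by simp, ← Polynomial.pow_comp,
      Polynomial.comp_C_mul_X_coeff, Polynomial.coeff_one_add_X_pow] at e
    obtain ⟨k, hk, rfl⟩ : ∃ k, 1 ≤ k ∧ N = m + k := ⟨N - m, by omega, by omega⟩
    have hc : ((m + k).choose m : R) = lam ^ k * (psiPoly lam (m + k) h).coeff m := by
      refine SekSuwa.cancel_nzd (pow_mem h.nzd m) ?_
      rw [pow_add] at e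
      linear_combination -e
    refine ⟨ϖ ^ (k - 1) * μ' ^ k * (psiPoly lam (m + k) h).coeff m, ?_⟩
    obtain ⟨j, rfl⟩ : ∃ j, k = j + 1 := ⟨k - 1, by omega⟩
    rw [hc]
    generalize (psiPoly lam (m + (j + 1)) h).coeff m = cm
    rw [hlam, Nat.add_sub_cancel]
    ring
  rw [add_comm (1 : B), add_pow]
  obtain ⟨N', rfl⟩ : ∃ N', N = N' + 1 := ⟨N - 1, by omega⟩
  rw [Finset.sum_range_succ, Finset.sum_range_succ']
  obtain ⟨e, he⟩ : σ (ϖ ^ (i * (N' + 1) + 1)) ∣
      ∑ k ∈ Finset.range N', (σ (ϖ ^ i) * b) ^ (k + 1) * 1 ^ (N' + 1 - (k + 1)) * ((N' + 1).choose (k + 1) : B) := by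
    refine Finset.dvd_sum fun k hk => ?_
    obtain ⟨c, hc⟩ := hcoef (k + 1) (Nat.succ_pos _) (by rw [Finset.mem_range] at hk; omega)
    refine ⟨σ c * b ^ (k + 1), ?_⟩
    have hc' := congrArg σ hc
    simp only [map_mul, map_natCast, map_pow] at hc' ⊢
    rw [one_pow]
    linear_combination b ^ (k + 1) * hc'
  refine ⟨e, ?_⟩
  rw [he]
  simp only [map_pow, pow_zero, one_pow, Nat.choose_zero_right, Nat.choose_self, Nat.cast_one, Nat.sub_self]
  ring

variable [IsDomain R] [IsDiscreteValuationRing R] {lam : R} {p n : ℕ} [Fact p.Prime]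
  [CharP (IsLocalRing.ResidueField R) p] [PerfectField (IsLocalRing.ResidueField R)]
  {h : DivCond lam (p ^ n)} {X : Scheme.{u}} (f : X ⟶ Spec (CommRingCat.of R)) [Flat f] [Surjective f]
  [IsReduced (pullback f (Spec.map (CommRingCat.ofHom (IsLocalRing.residue R))))]
  {P : Over X} {a : AlgGrp.Action (Red.bc f (GK R lam (p ^ n) h)) P}

theorem flat_surjective_torsor (ha : NonAbH1.IsTorsorFor Scheme.fpqcPrecoverage a) :
    Flat (P.hom ≫ f) ∧ Surjective (P.hom ≫ f) := by
  haveI : Flat (GK R lam (p ^ n) h).hom := (isFinLocFreeOfDeg_GK h (pow_pos (Nat.Prime.pos Fact.out) n)).1.2.1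
  haveI : Flat P.hom := property_of_torsor @Flat ha inferInstance
  haveI : Surjective P.hom := surjective_of_isLocallyTrivialFor ha.2
  exact ⟨inferInstance, inferInstance⟩

/-- The approximation of the Kummer function by constants. -/
theorem exists_approx (ha : NonAbH1.IsTorsorFor Scheme.fpqcPrecoverage a)
    (z : Γ(P.left, ⊤)) (u : R) (hu : IsUnit u) (hzN : z ^ (p ^ n) = sc f P u)
    (hze : ∀ {T : Over X} (g : T ⟶ Red.bc f (GK R lam (p ^ n) h)) (q : T ⟶ P),
      (lift g q ≫ a.act).left.appTop z = (1 + sc f T lam * tK f g) * q.left.appTop z)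
    {ϖ : R} (hϖ : Irreducible ϖ) (i : ℕ) (hi : ϖ ^ i ∣ lam) :
    ∃ (w : Rˣ) (b : Γ(P.left, ⊤)), z = sc f P w * (1 + sc f P (ϖ ^ i) * b) := by
  obtain ⟨hfl, hsurj⟩ := flat_surjective_torsor f ha
  have hN : 0 < p ^ n := pow_pos (Nat.Prime.pos Fact.out) n
  induction i with
  | zero => exact ⟨1, z - 1, by simp⟩
  | succ i ih =>
    obtain ⟨w, b, hb⟩ := ih (dvd_trans (pow_dvd_pow ϖ (Nat.le_succ i)) hi)
    obtain ⟨μ', hμ⟩ := hi
    have hmax : IsLocalRing.maximalIdeal R = Ideal.span {ϖ} := hϖ.maximalIdeal_eq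
    have hnzd : ∀ k, ϖ ^ k ∈ nonZeroDivisors R := fun k =>
      mem_nonZeroDivisors_of_ne_zero (pow_ne_zero _ hϖ.ne_zero)
    -- the expansion of `z ^ N`
    obtain ⟨e, he⟩ := exists_pow_expansion h hN hμ (sc f P) b
    have hz1 : sc f P (u * ↑(w⁻¹) ^ (p ^ n) - 1) = sc f P (ϖ ^ (i * p ^ n)) * (b ^ (p ^ n) + sc f P ϖ * e) := by
      rw [map_sub, map_mul, map_one, map_pow _ (↑(w⁻¹) : R), ← hzN, hb, mul_pow, he]
      have hw : sc f P (w : R) * sc f P ↑(w⁻¹) = 1 := by rw [← map_mul, Units.mul_inv, map_one]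
      rw [mul_right_comm, ← mul_pow, hw, one_pow, _root_.one_mul]
      ring
    obtain ⟨r, hr⟩ := dvd_of_sc_eq_mul f hz1
    have hr' : sc f P r = b ^ (p ^ n) + sc f P ϖ * e := by
      refine sc_mul_cancel f (hnzd (i * p ^ n)) ?_
      rw [← map_mul, ← hr, hz1]
    -- the reduction of `b` descends to the closed fibre
    let sm := Spec.map (CommRingCat.ofHom (Ideal.Quotient.mk (Ideal.span ({ϖ} : Set R))))
    haveI : IsReduced (pullback f sm) := isReduced_pullback_of_ideal_eq f hmax.symm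
    let L : Over X := Over.mk (pullback.fst f sm)
    have h0 : sc f L ϖ = 0 := sc_eq_zero f (l := pullback.snd f sm) pullback.condition
    let T₀ : Over X := Red.bc f (GK R lam (p ^ n) h) ⊗ P
    haveI : Flat (GK R lam (p ^ n) h).hom := (isFinLocFreeOfDeg_GK h hN).1.2.1
    haveI : Flat (T₀.hom ≫ f) := flat_tensor_hom' f _ _
    let g₀ := fst (Red.bc f (GK R lam (p ^ n) h)) P
    let q₀ := snd (Red.bc f (GK R lam (p ^ n) h)) P
    have hinv : ∃ c : Γ(T₀.left, ⊤), a.act.left.appTop b = q₀.left.appTop b + sc f T₀ ϖ * c := by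
      refine ⟨sc f T₀ μ' * tK f g₀ * (1 + sc f T₀ (ϖ ^ i) * q₀.left.appTop b), sc_mul_cancel f (hnzd i) ?_⟩
      have e1 := hze g₀ q₀
      rw [lift_fst_snd, Category.id_comp, hb] at e1
      simp only [map_mul, map_add, map_one, sc_map] at e1
      have e2 : sc f T₀ lam = sc f T₀ (ϖ ^ i) * sc f T₀ ϖ * sc f T₀ μ' := by
        rw [← map_mul, ← map_mul, hμ, pow_succ]
      rw [e2] at e1
      refine (((w.isUnit).map (sc f T₀))).mul_left_cancel ?_
      linear_combination e1
    obtain ⟨c, hc⟩ := hinv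
    obtain ⟨η₀, hη⟩ := exists_desc_fn ha.2 L (fun {T'} _ q => q.left.appTop b)
      (fun {T' T''} k m q => by rw [Over.comp_left, Scheme.Hom.comp_appTop]; rfl)
      (fun {T'} m q q' => by
        obtain ⟨g, hg, -⟩ := existsUnique_diff ha.1 q q'
        have e1 : q'.left.appTop b = (lift g q).left.appTop (a.act.left.appTop b) := by
          rw [← hg, Over.comp_left, Scheme.Hom.comp_appTop]; rfl
        have e2 : (lift g q).left.appTop (q₀.left.appTop b) = q.left.appTop b := by
          rw [← ConcreteCategory.comp_apply, ← Scheme.Hom.comp_appTop, ← Over.comp_left, lift_snd]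
        rw [e1, hc, map_add, e2, map_mul, sc_map, ← sc_map f m, h0, map_zero, zero_mul, add_zero])
    have hηN : η₀ ^ (p ^ n) = sc f L r := fn_ext ha.2 fun {T'} m q => by
      rw [map_pow, hη m q, ← map_pow, sc_map, ← sc_map f q, hr', map_add, map_mul q.left.appTop.hom (sc f P ϖ),
        sc_map, ← sc_map f m ϖ, h0, map_zero, zero_mul, add_zero]
    -- the residue field is perfect
    obtain ⟨dd, hdd⟩ := (iterateFrobeniusEquiv (IsLocalRing.ResidueField R) p n).surjective (IsLocalRing.residue R r)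
    obtain ⟨d, rfl⟩ := IsLocalRing.residue_surjective dd
    rw [iterateFrobeniusEquiv_def, ← map_pow] at hdd
    have hdr : sc f L (d ^ (p ^ n)) = sc f L r := by
      have : d ^ (p ^ n) - r ∈ Ideal.span {ϖ} := by
        rw [← hmax]; exact Ideal.Quotient.eq.1 hdd
      obtain ⟨d', hd'⟩ := Ideal.mem_span_singleton'.1 this
      rw [← sub_eq_zero, ← map_sub, ← hd', map_mul, h0, mul_zero]
    have hp0 : (p : Γ(L.left, ⊤)) = 0 := by
      have : (p : R) ∈ Ideal.span {ϖ} := by
        rw [← hmax, ← IsLocalRing.residue_eq_zero_iff, map_natCast, CharP.cast_eq_zero]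
      obtain ⟨p', hp'⟩ := Ideal.mem_span_singleton'.1 this
      rw [← map_natCast (sc f L), ← hp', map_mul, h0, mul_zero]
    have hηd : η₀ = sc f L d := by
      haveI : IsReduced L.left := ‹IsReduced (pullback f sm)›
      refine sub_eq_zero.1 (IsReduced.eq_zero _ ⟨p ^ n, ?_⟩)
      obtain ⟨r', hr''⟩ := Commute.exists_add_pow_prime_pow_eq (p := p) Fact.out
        (Commute.all (η₀ - sc f L d) (sc f L d)) n
      rw [sub_add_cancel, hηN, hp0, zero_mul, zero_mul, zero_mul, add_zero, ← map_pow, hdr] at hr''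
      exact add_right_cancel (b := sc f L r) (by rw [← hr'', zero_add])
    -- `b` is congruent to a constant
    let LP : Over X := Over.mk (pullback.fst (P.hom ≫ f) sm ≫ P.hom)
    let kP : LP ⟶ P := Over.homMk (pullback.fst (P.hom ≫ f) sm) rfl
    let mP : LP ⟶ L := Over.homMk (pullback.lift (kP.left ≫ P.hom) (pullback.snd (P.hom ≫ f) sm)
      ((Category.assoc _ _ _).trans pullback.condition)) (pullback.lift_fst _ _ _)
    obtain ⟨b', hb'⟩ := exists_mul_of_restrict_zero (P.hom ≫ f)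
      (mem_nonZeroDivisors_of_ne_zero hϖ.ne_zero) (IsPullback.of_hasPullback (P.hom ≫ f) sm) (b - sc f P d) (by
        show kP.left.appTop (b - sc f P d) = 0
        rw [map_sub, sc_map, ← hη mP kP, hηd, sc_map, sub_self])
    have hb'' : sc f P ϖ * b' = b - sc f P d := hb'
    have hbd : b = sc f P d + sc f P ϖ * b' := by rw [hb'', add_sub_cancel]
    have hw' : IsUnit (w * (1 + ϖ ^ i * d) : R) := by
      refine isUnit_of_isUnit_add f hϖ.not_isUnit (y := sc f P (w * ϖ ^ i) * b') ?_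
      have hz : IsUnit z := (isUnit_pow_iff hN.ne').1 (hzN ▸ hu.map _)
      convert hz using 1
      rw [hb, hbd]
      simp only [map_mul, map_add, map_one]
      ring
    obtain ⟨v, hv⟩ := (isUnit_of_mul_isUnit_right hw').exists_left_inv
    refine ⟨hw'.unit, sc f P v * b', ?_⟩
    have hv' : sc f P v * (1 + sc f P (ϖ ^ i) * sc f P d) = 1 := by
      rw [← map_mul, ← map_one (sc f P), ← map_add, ← map_mul, hv]
    rw [hb, hbd, IsUnit.unit_spec, pow_succ]
    simp only [map_mul, map_add, map_one]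
    linear_combination -(sc f P (w : R) * sc f P (ϖ ^ i) * sc f P ϖ * b') * hv'

/-- A torsor under G_{λ,N} carrying an equivariant function whose `N`-th power is a unit of the base comes from
the base. -/
theorem exists_descent (ha : NonAbH1.IsTorsorFor Scheme.fpqcPrecoverage a)
    (z : Γ(P.left, ⊤)) (u : R) (hu : IsUnit u) (hzN : z ^ (p ^ n) = sc f P u)
    (hze : ∀ {T : Over X} (g : T ⟶ Red.bc f (GK R lam (p ^ n) h)) (q : T ⟶ P),
      (lift g q ≫ a.act).left.appTop z = (1 + sc f T lam * tK f g) * q.left.appTop z) :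
    ∃ (Q : Over (Spec (CommRingCat.of R))) (b : AlgGrp.Action (GK R lam (p ^ n) h) Q) (i : P ≅ Red.bc f Q),
      NonAbH1.IsTorsorFor Scheme.fppfPrecoverage b ∧
      a.act ≫ i.hom = (Red.bc f (GK R lam (p ^ n) h) ◁ i.hom) ≫ (b.bc f).act := by
  obtain ⟨hfl, hsurj⟩ := flat_surjective_torsor f ha
  have hN : 0 < p ^ n := pow_pos (Nat.Prime.pos Fact.out) n
  have hlam0 : lam ≠ 0 := nonZeroDivisors.ne_zero h.nzd
  obtain ⟨ϖ, hϖ⟩ := IsDiscreteValuationRing.exists_irreducible R
  obtain ⟨v, c, hc⟩ := IsDiscreteValuationRing.eq_unit_mul_pow_irreducible hlam0 hϖ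
  obtain ⟨w, b₀, hb₀⟩ := exists_approx f ha z u hu hzN hze hϖ v (hc ▸ dvd_mul_left _ _)
  let t : Γ(P.left, ⊤) := sc f P ↑(c⁻¹) * b₀
  have ht : z = sc f P w * (1 + sc f P lam * t) := by
    rw [hb₀, hc, map_mul]
    have : sc f P (c : R) * sc f P ↑(c⁻¹) = 1 := by rw [← map_mul, Units.mul_inv, map_one]
    linear_combination -(sc f P (w : R) * sc f P (ϖ ^ v) * b₀) * this
  -- the constant
  letI := secAlgebra (dn f P)
  have hpsi : (1 + sc f P lam * t) ^ (p ^ n) =
      1 + sc f P (lam ^ (p ^ n)) * (psiPoly lam (p ^ n) h).eval₂ (sc f P) t := by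
    have e := aeval_psiPoly h (B := Γ((dn f P).left, ⊤)) t
    exact sub_eq_iff_eq_add'.1 e.symm
  have hu' : sc f P (u * ↑(w⁻¹) ^ (p ^ n) - 1) =
      sc f P (lam ^ (p ^ n)) * (psiPoly lam (p ^ n) h).eval₂ (sc f P) t := by
    have hw : sc f P (w : R) * sc f P ↑(w⁻¹) = 1 := by rw [← map_mul, Units.mul_inv, map_one]
    rw [map_sub, map_mul, map_one, map_pow _ (↑(w⁻¹) : R), ← hzN, ht, ← mul_pow, mul_right_comm, hw, _root_.one_mul, hpsi,
      add_sub_cancel_left]
  obtain ⟨a₀, ha₀⟩ := dvd_of_sc_eq_mul f hu'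
  have hta : (psiPoly lam (p ^ n) h).eval₂ (sc f P) t = sc f P a₀ := by
    refine sc_mul_cancel f (h.pow_nzd) ?_
    rw [← hu', ha₀, map_mul]
  have ha1 : IsUnit (1 + lam ^ (p ^ n) * a₀) := by
    rw [← ha₀, add_sub_cancel]
    exact hu.mul (w⁻¹.isUnit.pow _)
  obtain ⟨b, hb, hbact⟩ := exists_torsor h a₀ hN ha1
  obtain ⟨y, hy⟩ := exists_sQ_eq (h := h) (a := a₀) (T := dn f P) t hta
  obtain ⟨F, hF⟩ := exists_down_eq f y
  -- equivariance
  have htE : ∀ {T : Over X} (g : T ⟶ Red.bc f (GK R lam (p ^ n) h)) (q : T ⟶ P),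
      (lift g q ≫ a.act).left.appTop t = tK f g + q.left.appTop t + sc f T lam * (tK f g * q.left.appTop t) := by
    let T₀ : Over X := Red.bc f (GK R lam (p ^ n) h) ⊗ P
    haveI : Flat (GK R lam (p ^ n) h).hom := (isFinLocFreeOfDeg_GK h hN).1.2.1
    haveI : Flat (T₀.hom ≫ f) := flat_tensor_hom' f _ _
    let g₀ := fst (Red.bc f (GK R lam (p ^ n) h)) P
    let q₀ := snd (Red.bc f (GK R lam (p ^ n) h)) P
    have key : a.act.left.appTop t = tK f g₀ + q₀.left.appTop t + sc f T₀ lam * (tK f g₀ * q₀.left.appTop t) := by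
      refine sc_mul_cancel f h.nzd ?_
      have e1 := hze g₀ q₀
      rw [lift_fst_snd, Category.id_comp, ht] at e1
      simp only [map_mul, map_add, map_one, sc_map] at e1
      refine ((w.isUnit).map (sc f T₀)).mul_left_cancel ?_
      linear_combination e1
    intro T g q
    rw [Over.comp_left, Scheme.Hom.comp_appTop]
    show (lift g q).left.appTop (a.act.left.appTop t) = _
    rw [key]
    simp only [map_add, map_mul, sc_map, ← tK_comp]
    rw [← ConcreteCategory.comp_apply, ← Scheme.Hom.comp_appTop, ← Over.comp_left, lift_snd, lift_fst, sc_map]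
  have hq : ∀ {T : Over X} (q : T ⟶ P), sQ (down f (q ≫ F)) = q.left.appTop t := fun {T} q => by
    rw [down_comp, hF, sQ, ptHom_comp_left]
    exact congrArg _ hy
  have hequiv : a.act ≫ F = (Red.bc f (GK R lam (p ^ n) h) ◁ F) ≫ (b.bc f).act := by
    let g₀ := fst (Red.bc f (GK R lam (p ^ n) h)) P
    let q₀ := snd (Red.bc f (GK R lam (p ^ n) h)) P
    rw [show Red.bc f (GK R lam (p ^ n) h) ◁ F = lift g₀ (q₀ ≫ F) from
      CartesianMonoidalCategory.hom_ext _ _ (by simp [g₀]) (by simp [q₀])]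
    refine down_injective f (sQ_injective ?_)
    rw [down_act, hbact, hq, hq, ← Category.id_comp a.act, ← lift_fst_snd, htE]
    rfl
  haveI : IsIso F := isIso_of_equivariant ha (NonAbH1.isPseudoTorsorSch_bc f hb.1) F hequiv
  exact ⟨_, b, asIso F, hb, hequiv⟩

end

end Groth.Agent.SekTors
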