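import Groth.Agent.SekTors.Pts
import Groth.Agent.GITLib.Pushforward
import Mathlib.AlgebraicGeometry.AffineSpace

/-!
# Divisibility of functions on flat schemes over a ring, and descent of functions along a torsor
-/

set_option autoImplicit false
set_option linter.style.haveILetI false

universe u

open CategoryTheory CategoryTheory.Limits MonoidalCategory CartesianMonoidalCategory AlgebraicGeometry
open Groth.Agent.SekLib Groth.Agent.GITLib

namespace Groth.Agent.SekTors

noncomputable section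

variable {R : Type u} [CommRing R]

/-- A function on a flat scheme vanishing on the locus where a regular element vanishes is divisible by it. -/
theorem exists_mul_of_restrict_zero {W L : Scheme.{u}} (s : W ⟶ Spec (CommRingCat.of R)) [Flat s] {r : R}
    (hr : r ∈ nonZeroDivisors R) {k : L ⟶ W} {l : L ⟶ Spec (CommRingCat.of (R ⧸ Ideal.span ({r} : Set R)))}
    (hk : IsPullback k l s (Spec.map (CommRingCat.ofHom (Ideal.Quotient.mk (Ideal.span ({r} : Set R))))))
    (b : Γ(W, ⊤)) (hb : k.appTop b = 0) :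
    ∃ c : Γ(W, ⊤), ((Scheme.ΓSpecIso (CommRingCat.of R)).inv ≫ s.appTop).hom r * c = b := by
  let ρ : ∀ V : W.Opens, CommRingCat.of R ⟶ Γ(W, V) := fun V =>
    (Scheme.ΓSpecIso (CommRingCat.of R)).inv ≫ s.appLE ⊤ V le_top
  have hρ : ∀ {V V' : W.Opens} (i : V' ⟶ V), W.presheaf.map i.op ((ρ V).hom r) = (ρ V').hom r := fun {V V'} i => by
    show ((ρ V) ≫ W.presheaf.map i.op).hom r = _
    rw [Category.assoc, Scheme.Hom.appLE_map]
  have hreg : ∀ (V : W.Opens) (x : Γ(W, V)), (ρ V).hom r * x = 0 → x = 0 := fun V x hx => by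
    refine (ConcreteCategory.bijective_of_isIso V.topIso.inv).1 ?_
    rw [map_zero]
    letI := secAlgebra (Over.mk (V.ι ≫ s))
    haveI : Flat (Over.mk (V.ι ≫ s)).hom := inferInstanceAs (Flat (V.ι ≫ s))
    refine eq_zero_of_smul_eq_zero (T := Over.mk (V.ι ≫ s)) hr ?_
    rw [Algebra.smul_def]
    show ((Scheme.ΓSpecIso (CommRingCat.of R)).inv ≫ (V.ι ≫ s).appTop).hom r * _ = 0
    rw [show (0 : Γ((V : Scheme.{u}), ⊤)) = V.topIso.inv ((ρ V).hom r * x) by rw [hx, map_zero], map_mul]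
    congr 1
    show _ = (((Scheme.ΓSpecIso (CommRingCat.of R)).inv ≫ s.appLE ⊤ V le_top) ≫ V.topIso.inv).hom r
    refine congrArg (fun m : CommRingCat.of R ⟶ _ => m.hom r) ?_
    rw [Category.assoc]
    refine congrArg (_ ≫ ·) ?_
    rw [Scheme.Opens.topIso_inv, Scheme.Hom.comp_appTop, Scheme.Hom.appTop, Scheme.Hom.app_eq_appLE,
      Scheme.Opens.ι_appTop]
    erw [Scheme.Hom.appLE_map, Scheme.Hom.appLE_map]
  have hex : ∀ U : W.affineOpens, ∃ c : Γ(W, U.1), (ρ U.1).hom r * c = W.presheaf.map (homOfLE le_top).op b := by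
    intro U
    let bU : Γ(W, U.1) := W.presheaf.map (homOfLE le_top).op b
    let I : Ideal Γ(W, U.1) := Ideal.span {(ρ U.1).hom r}
    let q : Spec (CommRingCat.of (Γ(W, U.1) ⧸ I)) ⟶ W :=
      Spec.map (CommRingCat.ofHom (Ideal.Quotient.mk I)) ≫ U.2.fromSpec
    have hs : U.2.fromSpec ≫ s = Spec.map (ρ U.1) := by
      rw [show ρ U.1 = (Scheme.ΓSpecIso _).inv ≫ s.appLE ⊤ U.1 le_top from rfl, Spec.map_comp,
        ← IsAffineOpen.SpecMap_appLE_fromSpec s (isAffineOpen_top _) U.2 le_top, IsAffineOpen.fromSpec_top,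
        Scheme.isoSpec_Spec_inv]
    have hle : Ideal.span {r} ≤ RingHom.ker ((Ideal.Quotient.mk I).comp (ρ U.1).hom) := by
      rw [Ideal.span_singleton_le_iff_mem, RingHom.mem_ker]
      exact Ideal.Quotient.eq_zero_iff_mem.2 (Ideal.subset_span rfl)
    let t : R ⧸ Ideal.span ({r} : Set R) →+* Γ(W, U.1) ⧸ I :=
      Ideal.Quotient.lift _ ((Ideal.Quotient.mk I).comp (ρ U.1).hom) hle
    have e : q ≫ s = Spec.map (CommRingCat.ofHom t) ≫
        Spec.map (CommRingCat.ofHom (Ideal.Quotient.mk (Ideal.span ({r} : Set R)))) := by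
      rw [Category.assoc, hs, ← Spec.map_comp, ← Spec.map_comp]
      rfl
    have h0 : q.appTop b = 0 := by
      rw [← hk.lift_fst _ _ e, Scheme.Hom.comp_appTop]
      show (hk.lift q _ e).appTop.hom (k.appTop.hom b) = 0
      rw [hb, map_zero]
    have h1 : q.appTop b = (Scheme.ΓSpecIso _).inv ((Ideal.Quotient.mk I) bU) := by
      show (U.2.fromSpec.appTop ≫ (Spec.map (CommRingCat.ofHom (Ideal.Quotient.mk I))).appTop).hom b = _
      rw [show U.2.fromSpec.appTop = W.presheaf.map (homOfLE le_top).op ≫ (Scheme.ΓSpecIso Γ(W, U.1)).inv from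
        U.2.fromSpec_app_of_le ⊤ le_top |>.trans (by simp), Category.assoc, ← Scheme.ΓSpecIso_inv_naturality]
      rfl
    rw [h0] at h1
    have h2 : Ideal.Quotient.mk I bU = 0 :=
      (ConcreteCategory.bijective_of_isIso (Scheme.ΓSpecIso (CommRingCat.of (Γ(W, U.1) ⧸ I))).inv).1
        (h1.symm.trans (map_zero _).symm)
    obtain ⟨c, hc⟩ := Ideal.mem_span_singleton'.1 (Ideal.Quotient.eq_zero_iff_mem.1 h2)
    exact ⟨c, (mul_comm _ _).trans hc⟩
  choose c hc using hex
  have hcompat : TopCat.Presheaf.IsCompatible W.presheaf (fun U : W.affineOpens => U.1) c := by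
    intro U V
    refine sub_eq_zero.1 (hreg _ _ ?_)
    rw [mul_sub, sub_eq_zero, ← hρ (TopologicalSpace.Opens.infLELeft U.1 V.1), ← map_mul, hc,
      hρ (TopologicalSpace.Opens.infLELeft U.1 V.1), ← hρ (TopologicalSpace.Opens.infLERight U.1 V.1), ← map_mul, hc,
      ← CommRingCat.comp_apply, ← CommRingCat.comp_apply, ← Functor.map_comp, ← Functor.map_comp]
    rfl
  obtain ⟨c₀, hc₀, -⟩ := W.sheaf.existsUnique_gluing' (fun U : W.affineOpens => U.1) ⊤ (fun U => homOfLE le_top)
    (by rw [iSup_affineOpens_eq_top]) c hcompat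
  let c₁ : Γ(W, ⊤) := c₀
  refine ⟨c₁, TopCat.Sheaf.eq_of_locally_eq' W.sheaf (fun U : W.affineOpens => U.1) ⊤ (fun U => homOfLE le_top)
    (by rw [iSup_affineOpens_eq_top]) _ _ fun U => ?_⟩
  show W.presheaf.map _ (_ * c₁) = W.presheaf.map _ b
  rw [map_mul, show ((Scheme.ΓSpecIso (CommRingCat.of R)).inv ≫ s.appTop).hom r = (ρ ⊤).hom r by
    rw [Scheme.Hom.appTop, Scheme.Hom.app_eq_appLE]; rfl, hρ]
  exact (congrArg (fun z : Γ(W, U.1) => (ρ U.1).hom r * z) (hc₀ U : _ = c U)).trans (hc U)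

section Desc

variable {S : Scheme.{u}}

/-- The affine line. -/
abbrev line (S : Scheme.{u}) : Over S := Over.mk (𝔸(PUnit.{u + 1}; S) ↘ S)

/-- A function as a point of the affine line. -/
def toLine {T : Over S} (b : Γ(T.left, ⊤)) : T ⟶ line S :=
  Over.homMk (AffineSpace.homOfVector T.hom fun _ => b) (AffineSpace.homOfVector_over _ _)

/-- The function of a point of the affine line. -/
def ofLine {T : Over S} (x : T ⟶ line S) : Γ(T.left, ⊤) := x.left.appTop (AffineSpace.coord S PUnit.unit)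

theorem ofLine_toLine {T : Over S} (b : Γ(T.left, ⊤)) : ofLine (toLine (T := T) b) = b :=
  AffineSpace.homOfVector_appTop_coord _ _ _

theorem ofLine_comp {T T' : Over S} (k : T' ⟶ T) (x : T ⟶ line S) : ofLine (k ≫ x) = k.left.appTop (ofLine x) := rfl

theorem toLine_comp {T T' : Over S} (k : T' ⟶ T) (b : Γ(T.left, ⊤)) :
    k ≫ toLine b = toLine (T := T') (k.left.appTop b) := by
  refine Over.OverMorphism.ext ?_
  show k.left ≫ AffineSpace.homOfVector T.hom _ = AffineSpace.homOfVector T'.hom _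
  rw [AffineSpace.comp_homOfVector, Over.w]
  rfl

variable {P : Over S} (hP : NonAbH1.IsLocallyTrivialFor Scheme.fpqcPrecoverage P)

include hP in
/-- Functions on local points which do not depend on the point descend. -/
theorem exists_desc_fn (T : Over S) (val : ∀ {T' : Over S}, (T' ⟶ T) → (T' ⟶ P) → Γ(T'.left, ⊤))
    (hnat : ∀ {T' T'' : Over S} (k : T'' ⟶ T') (f : T' ⟶ T) (p : T' ⟶ P),
      k.left.appTop (val f p) = val (k ≫ f) (k ≫ p))
    (hind : ∀ {T' : Over S} (f : T' ⟶ T) (p p' : T' ⟶ P), val f p = val f p') :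
    ∃ b : Γ(T.left, ⊤), ∀ {T' : Over S} (f : T' ⟶ T) (p : T' ⟶ P), f.left.appTop b = val f p := by
  obtain ⟨x, hx⟩ := exists_desc_pt (Z := line S) (T := T) hP (fun f p => toLine (val f p))
    (fun k f p => by rw [toLine_comp, hnat]) (fun f p p' => by rw [hind f p p'])
  refine ⟨ofLine x, fun {T'} f p => ?_⟩
  rw [← ofLine_comp, hx f p, ofLine_toLine]

include hP in
/-- Functions agreeing on local points are equal. -/
theorem fn_ext {T : Over S} {b b' : Γ(T.left, ⊤)}
    (h : ∀ {T' : Over S} (f : T' ⟶ T) (_ : T' ⟶ P), f.left.appTop b = f.left.appTop b') : b = b' := by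
  have e : toLine b = toLine b' := hom_ext_q (pointSieve_mem hP T) fun T' f hf => hf.elim fun p => by
    rw [toLine_comp, toLine_comp, h f p]
  have := congrArg ofLine e
  rwa [ofLine_toLine, ofLine_toLine] at this

include hP in
/-- Units on local points which do not depend on the point descend to units. -/
theorem exists_desc_unit (T : Over S) (val : ∀ {T' : Over S}, (T' ⟶ T) → (T' ⟶ P) → Γ(T'.left, ⊤))
    (hnat : ∀ {T' T'' : Over S} (k : T'' ⟶ T') (f : T' ⟶ T) (p : T' ⟶ P),
      k.left.appTop (val f p) = val (k ≫ f) (k ≫ p))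
    (hu : ∀ {T' : Over S} (f : T' ⟶ T) (p : T' ⟶ P), IsUnit (val f p))
    (hind : ∀ {T' : Over S} (f : T' ⟶ T) (p p' : T' ⟶ P), val f p = val f p') :
    ∃ b : Γ(T.left, ⊤), IsUnit b ∧ ∀ {T' : Over S} (f : T' ⟶ T) (p : T' ⟶ P), f.left.appTop b = val f p := by
  obtain ⟨b, hb⟩ := exists_desc_fn hP T val hnat hind
  obtain ⟨c, hc⟩ := exists_desc_fn hP T (fun f p => (((hu f p).unit⁻¹ : _ˣ) : _))
    (fun k f p => by
      refine ((hu (k ≫ f) (k ≫ p)).mul_left_cancel ?_)
      rw [IsUnit.mul_val_inv, ← hnat, ← map_mul, IsUnit.mul_val_inv, map_one])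
    (fun f p p' => by
      refine (hu f p).mul_left_cancel ?_
      rw [IsUnit.mul_val_inv, hind f p p', IsUnit.mul_val_inv])
  refine ⟨b, IsUnit.of_mul_eq_one c (fn_ext hP fun f p => ?_), hb⟩
  rw [map_mul, map_one, hb f p, hc f p, IsUnit.mul_val_inv]

end Desc

end

end Groth.Agent.SekTors
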