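import Groth.Agent.SekLib.AlphaN
import Groth.Agent.GLDescent.GLnFlat
import Groth.Prelude.Def_ActBC

/-!
# Points of the base changes of G^(λ), G_{λ,N} and diagonalisable groups
-/

set_option autoImplicit false
set_option linter.style.haveILetI false

universe u

open CategoryTheory CategoryTheory.Limits MonoidalCategory CartesianMonoidalCategory MonObj AlgebraicGeometry SekSuwa
open Groth.Agent.SekLib
open scoped TensorProduct

namespace Groth.Agent.SekTors

noncomputable section

attribute [local instance] secAlgebra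

variable {R : Type u} [CommRing R] {X : Scheme.{u}} (f : X ⟶ Spec (CommRingCat.of R))

/-- A scheme over `X` as a scheme over the base. -/
abbrev dn (T : Over X) : Over (Spec (CommRingCat.of R)) := (Over.map f).obj T

/-- The scalars among the functions on a scheme over `X`. -/
def sc (T : Over X) : R →+* Γ(T.left, ⊤) := @algebraMap R Γ((dn f T).left, ⊤) _ _ (secAlgebra (dn f T))

theorem sc_eq (T : Over X) : sc f T = ((Scheme.ΓSpecIso (CommRingCat.of R)).inv ≫ (T.hom ≫ f).appTop).hom := rfl

theorem sc_map {T T' : Over X} (k : T' ⟶ T) (r : R) : k.left.appTop (sc f T r) = sc f T' r := by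
  rw [sc_eq, sc_eq, ← Over.w k, Category.assoc k.left, Scheme.Hom.comp_appTop k.left]
  rfl

/-- A point of a base change as a point over the base. -/
def down {Z : Over (Spec (CommRingCat.of R))} {T : Over X} (g : T ⟶ Red.bc f Z) : dn f T ⟶ Z :=
  ((Over.mapPullbackAdj f).homEquiv T Z).symm g

theorem down_injective {Z : Over (Spec (CommRingCat.of R))} {T : Over X} {g g' : T ⟶ Red.bc f Z}
    (h : down f g = down f g') : g = g' :=
  ((Over.mapPullbackAdj f).homEquiv T Z).symm.injective h

theorem exists_down_eq {Z : Over (Spec (CommRingCat.of R))} {T : Over X} (x : dn f T ⟶ Z) :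
    ∃ g : T ⟶ Red.bc f Z, down f g = x :=
  ⟨(Over.mapPullbackAdj f).homEquiv T Z x, Equiv.symm_apply_apply _ _⟩

theorem down_comp {Z : Over (Spec (CommRingCat.of R))} {T T' : Over X} (k : T' ⟶ T) (g : T ⟶ Red.bc f Z) :
    down f (k ≫ g) = (Over.map f).map k ≫ down f g :=
  Adjunction.homEquiv_naturality_left_symm _ k g

theorem down_comp_map {Z Z' : Over (Spec (CommRingCat.of R))} {T : Over X} (g : T ⟶ Red.bc f Z) (u : Z ⟶ Z') :
    down f (g ≫ (Over.pullback f).map u) = down f g ≫ u :=
  Adjunction.homEquiv_naturality_right_symm _ g u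

theorem down_mul {Z : Over (Spec (CommRingCat.of R))} [GrpObj Z] {T : Over X} (g g' : T ⟶ Red.bc f Z) :
    down f (g * g') = down f g * down f g' := by
  rw [down, Equiv.symm_apply_eq, AlgGrp.Action.homEquiv_mul, down, down, Equiv.apply_symm_apply,
    Equiv.apply_symm_apply]

theorem down_act {G Z : Over (Spec (CommRingCat.of R))} [GrpObj G] (b : AlgGrp.Action G Z) {T : Over X}
    (g : T ⟶ Red.bc f G) (z : T ⟶ Red.bc f Z) :
    down f (lift g z ≫ (b.bc f).act) = lift (down f g) (down f z) ≫ b.act := by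
  rw [down, Equiv.symm_apply_eq, ← AlgGrp.Action.lift_homEquiv_bc_act, down, down, Equiv.apply_symm_apply,
    Equiv.apply_symm_apply]

theorem ptHom_mul {A : Type u} [CommRing A] [HopfAlgebra R A] {T : Over (Spec (CommRingCat.of R))}
    (a b : T ⟶ specOver R A) (c : A) :
    ptHom (a * b) c = Algebra.TensorProduct.lift (ptHom a) (ptHom b) (fun _ _ => Commute.all _ _)
      (CoalgebraStruct.comul (R := R) c) := by
  obtain ⟨q, hq⟩ := exists_ptHom_eq (T := T) (A := Γ(T.left, ⊤)) (AlgHom.id _ _)
  have hfac : ∀ c : T ⟶ specOver R A, c = q ≫ Spec.mapMulEquiv (WithConv.toConv (ptHom c)) := by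
    intro c
    refine ptHom_injective ?_
    rw [ptHom_comp q (ptHom c) _ rfl, hq]
    rfl
  conv_lhs => rw [hfac a, hfac b, ← MonObj.comp_mul, ← map_mul, ptHom_comp q _ _ rfl, hq]
  show (WithConv.toConv (ptHom a) * WithConv.toConv (ptHom b)) c = _
  rw [AlgHom.convMul_apply]

section G

variable {lam : R}

/-- The coordinate of a point of G^(λ). -/
def tG {T : Over X} (g : T ⟶ Red.bc f (G R lam)) : Γ(T.left, ⊤) := ptHom (A := A R lam) (down f g) A.t

theorem tG_comp {T T' : Over X} (k : T' ⟶ T) (g : T ⟶ Red.bc f (G R lam)) :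
    tG f (k ≫ g) = k.left.appTop (tG f g) := by
  rw [tG, down_comp]; rfl

theorem tG_mul {T : Over X} (g g' : T ⟶ Red.bc f (G R lam)) :
    tG f (g * g') = tG f g + tG f g' + sc f T lam * (tG f g * tG f g') := by
  rw [tG, down_mul]
  refine (ptHom_mul _ _ _).trans ?_
  rw [A.comul_t, map_add, map_add, map_smul, Algebra.TensorProduct.lift_tmul, Algebra.TensorProduct.lift_tmul,
    Algebra.TensorProduct.lift_tmul, map_one, map_one, _root_.mul_one, _root_.one_mul, Algebra.smul_def]
  rfl

/-- The inverse of `1 + λt`. -/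
def tGinv {T : Over X} (g : T ⟶ Red.bc f (G R lam)) : Γ(T.left, ⊤) := ptHom (A := A R lam) (down f g) A.inv

theorem tG_inv {T : Over X} (g : T ⟶ Red.bc f (G R lam)) : (1 + sc f T lam * tG f g) * tGinv f g = 1 := by
  have e := congrArg (ptHom (A := A R lam) (down f g)) (A.u_mul_inv (R := R) (lam := lam))
  rw [map_mul, map_one, A.u, map_add, map_one, map_smul, Algebra.smul_def] at e
  exact e

theorem isUnit_tG {T : Over X} (g : T ⟶ Red.bc f (G R lam)) : IsUnit (1 + sc f T lam * tG f g) :=
  IsUnit.of_mul_eq_one _ (tG_inv f g)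

theorem tG_injective {T : Over X} {g g' : T ⟶ Red.bc f (G R lam)} (e : tG f g = tG f g') : g = g' := by
  refine down_injective f (ptHom_injective (A := A R lam) (A.algHom_ext e ?_))
  have h2 := tG_inv f g'
  rw [← e] at h2
  exact (isUnit_tG f g).mul_left_cancel ((tG_inv f g).trans h2.symm)

theorem exists_tG_eq {T : Over X} (b : Γ(T.left, ⊤)) (hb : IsUnit (1 + sc f T lam * b)) :
    ∃ g : T ⟶ Red.bc f (G R lam), tG f g = b := by
  obtain ⟨c, hc⟩ := hb.exists_right_inv
  let b' : Γ((dn f T).left, ⊤) := b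
  let c' : Γ((dn f T).left, ⊤) := c
  have hc' : (1 + lam • b') * c' = 1 := by rw [Algebra.smul_def]; exact hc
  obtain ⟨x, hx⟩ := exists_ptHom_eq (T := dn f T) (A := A R lam) (A.lift R lam b' c' hc')
  obtain ⟨g, hg⟩ := exists_down_eq f x
  refine ⟨g, ?_⟩
  rw [tG, hg]
  show ptHom x A.t = b
  rw [hx, A.lift_t]

end G

section GK

variable {lam : R} {N : ℕ} {h : DivCond lam N}

/-- The coordinate of a point of G_{λ,N}. -/
def tK {T : Over X} (g : T ⟶ Red.bc f (GK R lam N h)) : Γ(T.left, ⊤) := ptHom (A := AK R lam N h) (down f g) AK.t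

theorem tK_comp {T T' : Over X} (k : T' ⟶ T) (g : T ⟶ Red.bc f (GK R lam N h)) :
    tK f (k ≫ g) = k.left.appTop (tK f g) := by
  rw [tK, down_comp]; rfl

theorem tK_mul {T : Over X} (g g' : T ⟶ Red.bc f (GK R lam N h)) :
    tK f (g * g') = tK f g + tK f g' + sc f T lam * (tK f g * tK f g') := by
  rw [tK, down_mul]
  refine (ptHom_mul _ _ _).trans ?_
  rw [AK.comul_t, map_add, map_add, map_smul, Algebra.TensorProduct.lift_tmul, Algebra.TensorProduct.lift_tmul,
    Algebra.TensorProduct.lift_tmul, map_one, map_one, _root_.mul_one, _root_.one_mul, Algebra.smul_def]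
  rfl

/-- The inverse of `1 + λt`. -/
def tKinv {T : Over X} (g : T ⟶ Red.bc f (GK R lam N h)) : Γ(T.left, ⊤) :=
  ptHom (A := AK R lam N h) (down f g) AK.inv

theorem tK_inv {T : Over X} (g : T ⟶ Red.bc f (GK R lam N h)) : (1 + sc f T lam * tK f g) * tKinv f g = 1 := by
  have e := pt_inv h (ptHom (A := AK R lam N h) (down f g))
  rw [Algebra.smul_def] at e
  exact e

theorem isUnit_tK {T : Over X} (g : T ⟶ Red.bc f (GK R lam N h)) : IsUnit (1 + sc f T lam * tK f g) :=
  IsUnit.of_mul_eq_one _ (tK_inv f g)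

theorem tK_injective {T : Over X} {g g' : T ⟶ Red.bc f (GK R lam N h)} (e : tK f g = tK f g') : g = g' :=
  down_injective f (ptHom_injective (A := AK R lam N h) (pt_ext h e))

theorem aeval_tK {T : Over X} (g : T ⟶ Red.bc f (GK R lam N h)) :
    (psiPoly lam N h).eval₂ (sc f T) (tK f g) = 0 := by
  have e := congrArg (ptHom (A := AK R lam N h) (down f g)) (AK.aeval_t (R := R) (lam := lam) (N := N) (h := h))
  rw [← Polynomial.aeval_algHom_apply, map_zero] at e
  exact e

end GK

section Diag

variable {M : Type} [AddCommGroup M]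

/-- The unit attached to a point of a diagonalisable group and a character. -/
def chi {T : Over X} (g : T ⟶ Red.bc f (Red.diag R M)) (m : M) : Γ(T.left, ⊤) :=
  ptHom (A := MonoidAlgebra R (Multiplicative M)) (down f g) (MonoidAlgebra.single (Multiplicative.ofAdd m) 1)

theorem chi_comp {T T' : Over X} (k : T' ⟶ T) (g : T ⟶ Red.bc f (Red.diag R M)) (m : M) :
    chi f (k ≫ g) m = k.left.appTop (chi f g m) := by
  rw [chi, down_comp]; rfl

theorem chi_mul {T : Over X} (g g' : T ⟶ Red.bc f (Red.diag R M)) (m : M) :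
    chi f (g * g') m = chi f g m * chi f g' m := by
  rw [chi, down_mul]
  refine (ptHom_mul _ _ _).trans ?_
  simp [MonoidAlgebra.comul_single, chi]

theorem isUnit_chi {T : Over X} (g : T ⟶ Red.bc f (Red.diag R M)) (m : M) : IsUnit (chi f g m) := by
  refine IsUnit.map (ptHom (A := MonoidAlgebra R (Multiplicative M)) (down f g)) ?_
  exact IsUnit.of_mul_eq_one (MonoidAlgebra.single (Multiplicative.ofAdd m)⁻¹ (1 : R))
    (by rw [MonoidAlgebra.single_mul_single, mul_inv_cancel, _root_.mul_one]; rfl)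

theorem chi_alpha {lam : R} {T : Over X} (g : T ⟶ Red.bc f (G R lam)) :
    chi f (g ≫ (Over.pullback f).map (alpha R lam)) 1 = 1 + sc f T lam * tG f g := by
  rw [chi, down_comp_map]
  refine (DFunLike.congr_fun (ptHom_comp (down f g)
    (alphaHom R lam : MonoidAlgebra R (Multiplicative ℤ) →ₐ[R] A R lam) (alpha R lam) rfl) _).trans ?_
  show ptHom (A := A R lam) (down f g) (alphaHom R lam _) = _
  rw [alphaHom_single_one, A.u, map_add, map_one, map_smul, Algebra.smul_def]
  rfl

theorem chi_alphaN {lam : R} {N : ℕ} {h : DivCond lam N} {T : Over X} (g : T ⟶ Red.bc f (GK R lam N h)) :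
    chi f (g ≫ (Over.pullback f).map (alphaN R lam N h)) 1 = 1 + sc f T lam * tK f g := by
  rw [chi, down_comp_map]
  refine (alphaN_pt h (down f g)).trans ?_
  rw [Algebra.smul_def]
  rfl

end Diag

end

end Groth.Agent.SekTors
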